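import Groth.Agent.H11Dual.Cone
import Groth.Agent.H25Transversal.Main
import Groth.Agent.H10Coh.CISupport
import Groth.Agent.H13AlgSp.EtaleLocally

/-!
Charts of an embedded smooth projective variety with their homogeneous equations.
-/

set_option autoImplicit false
set_option linter.style.haveILetI false
set_option linter.unusedSectionVars false
universe u

open CategoryTheory CategoryTheory.Limits AlgebraicGeometry Opposite LefPen TopologicalSpace

noncomputable section

namespace Groth.Agent.H11Dual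

open MvPolynomial H25Transversal

variable {r : ℕ} {k : Type u} [Field k] {X : Scheme.{u}} (i : X ⟶ CohB1.ProjSpace r k)

/-- Polynomials as functions on a chart. -/
def sec (j : Fin (r + 1)) : MvPolynomial (Fin (r + 1)) k →+* Γ(X, i ⁻¹ᵁ chart r k j) :=
  (i.app (chart r k j)).hom.comp (polyToSection r k j)

/-- The homogeneous equations of the image. -/
def eqsSet : Set (MvPolynomial (Fin (r + 1)) k) :=
  {F | (∃ e, F.IsHomogeneous e) ∧ ∀ j, sec i j F = 0}

theorem eqsSet_hom {F : MvPolynomial (Fin (r + 1)) k} (hF : F ∈ eqsSet i) : ∃ e, F.IsHomogeneous e := hF.1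

theorem sec_X_self (j : Fin (r + 1)) : sec i j (MvPolynomial.X j) = 1 := by
  show (i.app _).hom (polyToSection r k j _) = 1
  rw [polyToSection_self, map_one]

theorem sec_eq_zero_iff [IsReduced X] {e : ℕ} {F : MvPolynomial (Fin (r + 1)) k} (hF : F.IsHomogeneous e)
    (j : Fin (r + 1)) :
    sec i j F = 0 ↔ (i ⁻¹ᵁ chart r k j) ⊓ i ⁻¹ᵁ (Proj.basicOpen (CohB1.polyGrading r k) F) = ⊥ := by
  have h1 : sec i j F = (i.app (chart r k j)).hom (dehom (⟨F, hF⟩ : Form r k e) j) :=
    congrArg (fun a => (i.app (chart r k j)).hom a) (polyToSection_form (⟨F, hF⟩ : Form r k e) j)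
  rw [h1, ← AlgebraicGeometry.basicOpen_eq_bot_iff, ← Scheme.preimage_basicOpen]
  have hb : (CohB1.ProjSpace r k).basicOpen (dehom (⟨F, hF⟩ : Form r k e) j) =
      Proj.basicOpen (CohB1.polyGrading r k) (MvPolynomial.X j * F) :=
    H11Tilde.basicOpen_eq_of_fval (CohB1.polyGrading r k) (k := e) (dehom (⟨F, hF⟩ : Form r k e) j) fun y hy =>
      H11Tilde.fval_awayToSection (CohB1.polyGrading r k) (X_mem r k j) e F _ y
  rw [hb, Proj.basicOpen_mul]
  rfl

theorem mem_eqsSet [IsReduced X] [IrreducibleSpace X] {e : ℕ} {F : MvPolynomial (Fin (r + 1)) k}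
    (hF : F.IsHomogeneous e) {j : Fin (r + 1)} (hj : (i ⁻¹ᵁ chart r k j : Set X).Nonempty)
    (h : sec i j F = 0) : F ∈ eqsSet i := by
  refine ⟨⟨e, hF⟩, fun l => (sec_eq_zero_iff i hF l).2 ?_⟩
  rw [sec_eq_zero_iff i hF] at h
  by_contra hne
  obtain ⟨x, hx⟩ := (Opens.ne_bot_iff_nonempty _).1 hne
  obtain ⟨y, hy⟩ := nonempty_preirreducible_inter (i ⁻¹ᵁ chart r k j).2
    (i ⁻¹ᵁ (Proj.basicOpen (CohB1.polyGrading r k) F)).2 hj ⟨x, hx.2⟩
  exact (h ▸ hy : y ∈ (⊥ : X.Opens))

theorem X_mem_eqsSet [IsReduced X] {j : Fin (r + 1)} (hj : ¬ (i ⁻¹ᵁ chart r k j : Set X).Nonempty) :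
    MvPolynomial.X j ∈ eqsSet i := by
  refine ⟨⟨1, isHomogeneous_X k j⟩, fun l => (sec_eq_zero_iff i (isHomogeneous_X k j) l).2 ?_⟩
  rw [eq_bot_iff]
  exact fun y hy => (hj ⟨y, hy.2⟩).elim

theorem isHomogeneous_zero_mem : (0 : MvPolynomial (Fin (r + 1)) k) ∈ eqsSet i :=
  ⟨⟨0, isHomogeneous_zero _ _ 0⟩, fun _ => map_zero _⟩

/-- Scalars on an open. -/
abbrev scal (V : X.Opens) : k →+* Γ(X, V) :=
  ((Scheme.ΓSpecIso (CommRingCat.of k)).inv ≫
    (i ≫ CohB1.ProjSpace.toSpec r k).appLE ⊤ V (fun _ _ => trivial)).hom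

theorem sec_C (j : Fin (r + 1)) [IsClosedImmersion i] (c : k) :
    sec i j (MvPolynomial.C c) = scal i (i ⁻¹ᵁ chart r k j) c := by
  have hU : IsAffineOpen (i ⁻¹ᵁ chart r k j) := (chartU r k j).2.preimage i
  have h1 : Spec.map ((Scheme.ΓSpecIso (CommRingCat.of k)).inv ≫
      (i ≫ CohB1.ProjSpace.toSpec r k).appLE ⊤ (i ⁻¹ᵁ chart r k j) (fun _ _ => trivial)) =
      Spec.map (CommRingCat.ofHom ((sec i j).comp MvPolynomial.C)) := by
    rw [show CommRingCat.ofHom ((sec i j).comp MvPolynomial.C) =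
      CommRingCat.ofHom ((polyToSection r k j).comp MvPolynomial.C) ≫
        i.appLE (chart r k j) (i ⁻¹ᵁ chart r k j) le_rfl by rw [Scheme.Hom.app_eq_appLE i |>.symm]; rfl,
      Spec.map_comp _ (i.appLE _ _ _), ← fromSpec_toSpec]
    refine Eq.trans ?_ (Category.assoc _ _ _)
    erw [IsAffineOpen.SpecMap_appLE_fromSpec i (chartU r k j).2 hU le_rfl]
    rw [Category.assoc, ← IsAffineOpen.SpecMap_appLE_fromSpec
      (i ≫ CohB1.ProjSpace.toSpec r k) (isAffineOpen_top _) hU (fun _ _ => trivial),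
      IsAffineOpen.fromSpec_top, Scheme.isoSpec_Spec_inv, ← Spec.map_comp]
  exact (RingHom.congr_fun (congrArg CommRingCat.Hom.hom (Spec.map_injective h1)) c).symm

theorem isIntegral_of_smooth_irreducible [IrreducibleSpace X] [Smooth (i ≫ CohB1.ProjSpace.toSpec r k)] :
    IsIntegral X := by
  haveI : IsReduced X := H13AlgSp.isReduced_of_smooth_mor (i ≫ CohB1.ProjSpace.toSpec r k)
  exact isIntegral_of_irreducibleSpace_of_isReduced X

/-- Every point has a standard smooth chart which is basic in a standard chart. -/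
theorem exists_basic_chart {n : ℕ} [IsClosedImmersion i]
    [SmoothOfRelativeDimension n (i ≫ CohB1.ProjSpace.toSpec r k)] (j : Fin (r + 1)) (x : X)
    (hx : x ∈ i ⁻¹ᵁ chart r k j) :
    ∃ h : Γ(X, i ⁻¹ᵁ chart r k j), x ∈ X.basicOpen h ∧
      (scal i (X.basicOpen h)).IsStandardSmoothOfRelativeDimension n := by
  obtain ⟨U, hU, V, hV, hxV, e, hstd⟩ :=
    SmoothOfRelativeDimension.exists_isStandardSmoothOfRelativeDimension (n := n)
      (f := i ≫ CohB1.ProjSpace.toSpec r k) x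
  have hUtop : U = ⊤ := eq_top_iff.mpr fun y _ =>
    (Subsingleton.elim (α := PrimeSpectrum k) ((i ≫ CohB1.ProjSpace.toSpec r k) x) y) ▸ e hxV
  subst hUtop
  obtain ⟨g, h, hgh, hxg⟩ := exists_basicOpen_le_affine_inter hV ((chartU r k j).2.preimage i) x ⟨hxV, hx⟩
  suffices hs : (scal i (X.basicOpen g)).IsStandardSmoothOfRelativeDimension n by
    rw [hgh] at hs
    exact ⟨h, hgh ▸ hxg, hs⟩
  haveI := hV.isLocalization_basicOpen g
  have h2 := (RingHom.isStandardSmoothOfRelativeDimension_stableUnderCompositionWithLocalizationAway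
    n).2 Γ(X, X.basicOpen g) g _ hstd
  have h3 : ((i ≫ CohB1.ProjSpace.toSpec r k).appLE ⊤ (X.basicOpen g) (fun _ _ => trivial)).hom.IsStandardSmoothOfRelativeDimension n := by
    convert h2 using 1
    rw [← Scheme.Hom.appLE_map _ e (homOfLE (X.basicOpen_le g)).op]
    rfl
  exact (RingHom.isStandardSmoothOfRelativeDimension_respectsIso (n := n)).2 _
    (Scheme.ΓSpecIso (CommRingCat.of k)).symm.commRingCatIsoToRingEquiv h3

variable (j : Fin (r + 1)) (h : Γ(X, i ⁻¹ᵁ chart r k j))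

/-- Coordinates on a basic chart. -/
def gA : Fin (r + 1) → Γ(X, X.basicOpen h) := fun l =>
  X.presheaf.map (homOfLE (X.basicOpen_le h)).op (sec i j (MvPolynomial.X l))

/-- The algebra structures of a chart. -/
structure ChartAlg [IsClosedImmersion i] [Algebra k Γ(X, i ⁻¹ᵁ chart r k j)] [Algebra k Γ(X, X.basicOpen h)]
    [Algebra Γ(X, i ⁻¹ᵁ chart r k j) Γ(X, X.basicOpen h)] : Prop where
  kU : algebraMap k Γ(X, i ⁻¹ᵁ chart r k j) = scal i (i ⁻¹ᵁ chart r k j)
  kA : algebraMap k Γ(X, X.basicOpen h) = scal i (X.basicOpen h)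
  UA : algebraMap Γ(X, i ⁻¹ᵁ chart r k j) Γ(X, X.basicOpen h) =
    (X.presheaf.map (homOfLE (X.basicOpen_le h)).op).hom

variable [IsClosedImmersion i] [Algebra k Γ(X, i ⁻¹ᵁ chart r k j)] [Algebra k Γ(X, X.basicOpen h)]
  [Algebra Γ(X, i ⁻¹ᵁ chart r k j) Γ(X, X.basicOpen h)] {i j h}

theorem ChartAlg.isScalarTower (hA : ChartAlg i j h) :
    IsScalarTower k Γ(X, i ⁻¹ᵁ chart r k j) Γ(X, X.basicOpen h) := by
  refine IsScalarTower.of_algebraMap_eq fun c => ?_
  rw [hA.UA, hA.kA, hA.kU]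
  exact congr($(((i ≫ CohB1.ProjSpace.toSpec r k).appLE_map (U := ⊤) (V := i ⁻¹ᵁ chart r k j) (fun _ _ => trivial)
    (homOfLE (X.basicOpen_le h)).op).symm) ((Scheme.ΓSpecIso (CommRingCat.of k)).inv c))

theorem ChartAlg.aeval_sec (hA : ChartAlg i j h) (F : MvPolynomial (Fin (r + 1)) k) :
    MvPolynomial.aeval (R := k) (fun l => sec i j (MvPolynomial.X l)) F = sec i j F := by
  show (MvPolynomial.aeval (R := k) fun l => sec i j (MvPolynomial.X l)).toRingHom F = _
  congr 1
  exact MvPolynomial.ringHom_ext (fun c => by simp [hA.kU, sec_C]) (fun l => by simp)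

theorem ChartAlg.aeval_gA (hA : ChartAlg i j h) (F : MvPolynomial (Fin (r + 1)) k) :
    MvPolynomial.aeval (R := k) (gA i j h) F = X.presheaf.map (homOfLE (X.basicOpen_le h)).op (sec i j F) := by
  haveI := hA.isScalarTower
  have h1 : gA i j h = fun l => algebraMap Γ(X, i ⁻¹ᵁ chart r k j) Γ(X, X.basicOpen h) (sec i j (MvPolynomial.X l)) :=
    funext fun l => by rw [hA.UA]; rfl
  rw [h1]
  refine (MvPolynomial.aeval_algebraMap_apply _ _ _).trans ?_
  rw [hA.aeval_sec, hA.UA]

theorem ChartAlg.isLocalization (hA : ChartAlg i j h) : IsLocalization.Away h Γ(X, X.basicOpen h) := by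
  have := ((chartU r k j).2.preimage i).isLocalization_basicOpen h
  have e : ‹Algebra Γ(X, i ⁻¹ᵁ chart r k j) Γ(X, X.basicOpen h)› =
      (X.presheaf.map (homOfLE (X.basicOpen_le h)).op).hom.toAlgebra :=
    Algebra.algebra_ext _ _ fun u => congr($(hA.UA) u)
  rw [e]
  exact this

theorem ChartAlg.coneChart (hA : ChartAlg i j h) [IsReduced X] [IrreducibleSpace X]
    (hne : (i ⁻¹ᵁ chart r k j : Set X).Nonempty) :
    IsConeChart (A := Γ(X, X.basicOpen h)) (gA i j h) j (eqsSet i) Γ(X, i ⁻¹ᵁ chart r k j)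
      (fun l => sec i j (MvPolynomial.X l)) := by
  refine ⟨fun u => ?_, fun l => by rw [hA.UA]; rfl, sec_X_self i j, fun F e hF h0 => ?_⟩
  · obtain ⟨a, ha⟩ := Scheme.Hom.app_surjective i (chart r k j) (chartU r k j).2 u
    obtain ⟨F, rfl⟩ := polyToSection_surjective j a
    exact ⟨F, by rw [hA.aeval_sec]; exact ha⟩
  · rw [hA.aeval_sec] at h0
    exact mem_eqsSet i hF hne h0

theorem ChartAlg.eqs_zero (hA : ChartAlg i j h) (F : MvPolynomial (Fin (r + 1)) k) (hF : F ∈ eqsSet i) :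
    MvPolynomial.aeval (R := k) (gA i j h) F = 0 := by
  rw [hA.aeval_gA, hF.2 j, map_zero]

theorem ChartAlg.span_D (hA : ChartAlg i j h) :
    Submodule.span Γ(X, X.basicOpen h) (Set.range fun l => KaehlerDifferential.D k Γ(X, X.basicOpen h) (gA i j h l)) = ⊤ := by
  refine span_D_generators _ ?_
  have : (MvPolynomial.aeval (R := k) (gA i j h)).toRingHom =
      (i.appLE (chart r k j) (X.basicOpen h) (X.basicOpen_le h)).hom.comp (polyToSection r k j) :=
    RingHom.ext fun F => (hA.aeval_gA F).trans rfl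
  rw [this]
  exact RingHom.FormallyUnramified.stableUnderComposition _ _
    (RingHom.FormallyUnramified.of_surjective (polyToSection_surjective j))
    (HasRingHomProperty.appLE @FormallyUnramified i inferInstance (chartU r k j)
      ⟨X.basicOpen h, ((chartU r k j).2.preimage i).basicOpen h⟩ (X.basicOpen_le h))

/-- The trace of a section on a chart. -/
theorem ChartAlg.secIdeal_ideal (hA : ChartAlg i j h) {d : ℕ} (H : Form r k d) :
    (secIdeal i {H}).ideal ⟨X.basicOpen h, ((chartU r k j).2.preimage i).basicOpen h⟩ =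
      Ideal.span {MvPolynomial.aeval (R := k) (gA i j h) H.1} := by
  rw [secIdeal, iSup_singleton, H29Blow.ideal_comap _ i (chartU r k j) _ (X.basicOpen_le h), hypIdeal_ideal_chart]
  refine (Ideal.map_span _ _).trans ((congrArg Ideal.span Set.image_singleton).trans ?_)
  congr 2
  rw [hA.aeval_gA, ← polyToSection_form]
  rfl

end Groth.Agent.H11Dual
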