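import Groth.Agent.H25Transversal.Algebra
import Mathlib.RingTheory.MvPolynomial.EulerIdentity

/-!
The tangent space of the affine cone over a point of an embedded smooth scheme, through the homogeneous
equations.
-/

set_option autoImplicit false
set_option linter.style.haveILetI false
set_option linter.unusedSectionVars false
universe u

noncomputable section

namespace Groth.Agent.H11Dual

open MvPolynomial KaehlerDifferential Matrix

variable {k : Type u} [Field k] {r : ℕ}

/-- The gradient of a polynomial at a point. -/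
def grad (v : Fin (r + 1) → k) : MvPolynomial (Fin (r + 1)) k →ₗ[k] (Fin (r + 1) → k) :=
  LinearMap.pi fun l => (aeval v).toLinearMap ∘ₗ (pderiv l).toLinearMap

theorem grad_apply (v : Fin (r + 1) → k) (F : MvPolynomial (Fin (r + 1)) k) (l : Fin (r + 1)) :
    grad v F l = eval v (pderiv l F) := rfl

/-- The vectors orthogonal to the gradients of a set of equations. -/
def tanSp (J : Set (MvPolynomial (Fin (r + 1)) k)) (v : Fin (r + 1) → k) : Submodule k (Fin (r + 1) → k) where
  carrier := {w | ∀ F ∈ J, grad v F ⬝ᵥ w = 0}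
  zero_mem' F _ := dotProduct_zero _
  add_mem' hw hw' F hF := by rw [dotProduct_add, hw F hF, hw' F hF, add_zero]
  smul_mem' c w hw F hF := by rw [dotProduct_smul, hw F hF, smul_zero]

theorem mem_tanSp {J : Set (MvPolynomial (Fin (r + 1)) k)} {v w : Fin (r + 1) → k} :
    w ∈ tanSp J v ↔ ∀ F ∈ J, grad v F ⬝ᵥ w = 0 := Iff.rfl

/-- Every polynomial agrees with a homogeneous one modulo `X_j - 1`. -/
theorem exists_homogenize (j : Fin (r + 1)) (f : MvPolynomial (Fin (r + 1)) k) :
    ∃ (e : ℕ) (F : MvPolynomial (Fin (r + 1)) k), F.IsHomogeneous e ∧ ∃ c, F = f + c * (X j - 1) := by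
  classical
  refine ⟨f.totalDegree, ∑ i ∈ Finset.range (f.totalDegree + 1),
    X j ^ (f.totalDegree - i) * homogeneousComponent i f, IsHomogeneous.sum _ _ _ fun i hi => ?_, ?_⟩
  · have h := ((isHomogeneous_X k j).pow (f.totalDegree - i)).mul (homogeneousComponent_isHomogeneous i f)
    rwa [one_mul, Nat.sub_add_cancel (Nat.lt_succ_iff.1 (Finset.mem_range.1 hi))] at h
  · choose c hc using fun m : ℕ => sub_one_dvd_pow_sub_one (X j : MvPolynomial (Fin (r + 1)) k) m
    refine ⟨∑ i ∈ Finset.range (f.totalDegree + 1), c (f.totalDegree - i) * homogeneousComponent i f, ?_⟩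
    conv_rhs => arg 1; rw [← sum_homogeneousComponent f]
    rw [Finset.sum_mul, ← Finset.sum_add_distrib]
    refine Finset.sum_congr rfl fun i _ => ?_
    linear_combination (homogeneousComponent i f) * hc (f.totalDegree - i)

/-- A derivation at a point, as a homomorphism to the dual numbers. -/
theorem exists_dualNumberHom {A : Type u} [CommRing A] [Algebra k A] (p : A →ₐ[k] k) (δ : A →ₗ[k] k)
    (hδ : ∀ a a', δ (a * a') = p a * δ a' + p a' * δ a) :
    ∃ Φ : A →ₐ[k] TrivSqZeroExt k k, ∀ a, (Φ a).fst = p a ∧ (Φ a).snd = δ a := by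
  have h1 : δ 1 = 0 := by
    have h := hδ 1 1
    simp only [mul_one, map_one, one_mul] at h
    linear_combination -h
  refine ⟨AlgHom.ofLinearMap (LinearMap.prod p.toLinearMap δ : A →ₗ[k] k × k) ?_ ?_, fun a => ⟨rfl, rfl⟩⟩
  · exact TrivSqZeroExt.ext (map_one p) h1
  · intro a a'
    refine TrivSqZeroExt.ext (map_mul p a a') ?_
    show δ (a * a') = p a • δ a' + MulOpposite.op (p a') • δ a
    rw [hδ]; simp [mul_comm]

/-- Kähler functional of a homomorphism to the dual numbers. -/
theorem exists_functional {A : Type u} [CommRing A] [Algebra k A] (p : A →ₐ[k] k)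
    (Φ : A →ₐ[k] TrivSqZeroExt k k) (hΦ : ∀ a, (Φ a).fst = p a) :
    ∃ ℓ : Ω[A⁄k] →+ k, (∀ (a : A) (ω : Ω[A⁄k]), ℓ (a • ω) = p a * ℓ ω) ∧ ∀ a, ℓ (D k A a) = (Φ a).snd := by
  letI : Algebra A k := p.toRingHom.toAlgebra
  haveI : IsScalarTower k A k := IsScalarTower.of_algebraMap_eq fun c => (p.commutes c).symm
  let d : Derivation k A k := Derivation.mk'
    { toFun := fun a => (Φ a).snd
      map_add' := fun a a' => by simp
      map_smul' := fun c a => by simp }
    fun a a' => by
      show (Φ (a * a')).snd = p a * (Φ a').snd + p a' * (Φ a).snd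
      rw [map_mul, TrivSqZeroExt.snd_mul, hΦ, hΦ]
      simp [mul_comm]
  exact ⟨d.liftKaehlerDifferential.toAddMonoidHom, fun a ω => d.liftKaehlerDifferential.map_smul a ω,
    fun a => d.liftKaehlerDifferential_comp_D a⟩

variable {A : Type u} [CommRing A] [Algebra k A] {n : ℕ}

theorem D_aeval (g : Fin (r + 1) → A) (F : MvPolynomial (Fin (r + 1)) k) :
    D k A (aeval g F) = ∑ l, aeval g (pderiv l F) • D k A (g l) := by
  classical
  induction F using MvPolynomial.induction_on with
  | C a => simp
  | add p q hp hq => simp only [map_add, hp, hq, add_smul, Finset.sum_add_distrib]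
  | mul_X p l hp =>
    rw [map_mul, aeval_X, Derivation.leibniz, hp, Finset.smul_sum]
    have hterm : ∀ x, aeval g (pderiv x (p * X l)) • D k A (g x) =
        g l • aeval g (pderiv x p) • D k A (g x) +
          (if l = x then aeval g p • D k A (g x) else 0) := fun x => by
      rw [pderiv_mul, pderiv_X, Pi.single_apply]
      split_ifs <;> simp [add_smul, smul_smul, mul_comm]
    rw [Finset.sum_congr rfl fun x _ => hterm x, Finset.sum_add_distrib, Finset.sum_ite_eq,
      if_pos (Finset.mem_univ _), add_comm]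

section Chart

variable (b : Module.Basis (Fin n) A Ω[A⁄k]) (g : Fin (r + 1) → A) (j : Fin (r + 1)) (p : A →ₐ[k] k)
  (J : Set (MvPolynomial (Fin (r + 1)) k))

/-- The images of the coordinate vectors. -/
def tanMat : Matrix (Fin (r + 1)) (Fin n) k := Matrix.of fun l i => p (b.repr (D k A (g l)) i)

theorem grad_dot_tanMat (F : MvPolynomial (Fin (r + 1)) k) (i : Fin n) :
    ∑ l, grad (p ∘ g) F l * tanMat b g p l i = p (b.repr (D k A (aeval g F)) i) := by
  rw [D_aeval, map_sum, Finsupp.finsetSum_apply, map_sum]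
  refine Finset.sum_congr rfl fun l _ => ?_
  rw [map_smul, Finsupp.smul_apply, smul_eq_mul, map_mul, tanMat, Matrix.of_apply, grad_apply]
  congr 1
  rw [← aeval_eq_eval]
  exact (comp_aeval_apply g p _).symm

theorem grad_dot_mulVec (F : MvPolynomial (Fin (r + 1)) k) (a : Fin n → k) :
    grad (p ∘ g) F ⬝ᵥ (tanMat b g p).mulVec a = ∑ i, p (b.repr (D k A (aeval g F)) i) * a i := by
  simp only [dotProduct, Matrix.mulVec, Finset.mul_sum, ← mul_assoc]
  rw [Finset.sum_comm]
  simp only [← Finset.sum_mul, grad_dot_tanMat]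

theorem eval_comp (F : MvPolynomial (Fin (r + 1)) k) : eval (p ∘ g) F = p (aeval g F) := by
  rw [← aeval_eq_eval]
  exact (comp_aeval_apply g p _).symm

variable (hhom : ∀ F ∈ J, ∃ e, F.IsHomogeneous e) (hzero : ∀ F ∈ J, aeval g F = 0)

include hhom hzero in
theorem cone_vec_mem : p ∘ g ∈ tanSp J (p ∘ g) := fun F hF => by
  obtain ⟨e, he⟩ := hhom F hF
  have h := congrArg (eval (p ∘ g)) he.sum_X_mul_pderiv
  rw [map_nsmul, eval_comp g p F, hzero F hF, map_zero, nsmul_zero] at h
  rw [← h, dotProduct, map_sum]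
  exact Finset.sum_congr rfl fun l _ => by rw [map_mul, eval_X, mul_comm]; rfl

include hzero in
theorem tanMat_mem (a : Fin n → k) : (tanMat b g p).mulVec a ∈ tanSp J (p ∘ g) := fun F hF => by
  rw [grad_dot_mulVec, hzero F hF]
  simp

/-- The chart data: `A` is a localisation of a quotient of the polynomial ring, and the equations are the
homogeneous relations. -/
structure IsConeChart (U : Type u) [CommRing U] [Algebra k U] [Algebra U A] (gU : Fin (r + 1) → U) : Prop where
  surj : Function.Surjective (aeval (R := k) gU)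
  comp : ∀ l, algebraMap U A (gU l) = g l
  one : gU j = 1
  rel : ∀ (F : MvPolynomial (Fin (r + 1)) k) (e : ℕ), F.IsHomogeneous e → aeval gU F = 0 → F ∈ J

variable {U : Type u} [CommRing U] [Algebra k U] [Algebra U A] [IsScalarTower k U A] {gU : Fin (r + 1) → U}

theorem IsConeChart.g_one (hc : IsConeChart g j J U gU) : g j = 1 := by rw [← hc.comp, hc.one, map_one]

/-- A zero of the equations gives a point. -/
theorem IsConeChart.exists_point (hc : IsConeChart g j J U gU) (v : Fin (r + 1) → k) (hvj : v j = 1)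
    (hv : ∀ F ∈ J, eval v F = 0) : ∃ q : U →ₐ[k] k, ∀ l, q (gU l) = v l := by
  have hker : ∀ f : MvPolynomial (Fin (r + 1)) k, aeval gU f = 0 → aeval v f = 0 := fun f hf => by
    obtain ⟨e, F, hF, c, hFc⟩ := exists_homogenize j f
    have h1 : aeval gU F = 0 := by rw [hFc]; simp [hf, hc.one]
    have h2 := hv F (hc.rel F e hF h1)
    rw [hFc] at h2
    rw [aeval_eq_eval]
    simpa [hvj] using h2
  refine ⟨AlgHom.liftOfSurjective (aeval gU) hc.surj (aeval v) fun f hf => hker f hf, fun l => ?_⟩
  rw [← aeval_X (R := k) gU l, AlgHom.liftOfSurjective_apply, aeval_X]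

/-- The tangent vectors in the chart come from the Kähler differentials. -/
theorem IsConeChart.exists_preimage (hc : IsConeChart g j J U gU) (h : U) [IsLocalization.Away h A]
    (w : Fin (r + 1) → k) (hw : w ∈ tanSp J (p ∘ g)) (hwj : w j = 0) :
    ∃ a : Fin n → k, (tanMat b g p).mulVec a = w := by
  let v := p ∘ g
  let pU : U →ₐ[k] k := p.comp (IsScalarTower.toAlgHom k U A)
  have hvj : v j = 1 := by show p (g j) = 1; rw [hc.g_one, map_one]
  let Dw : MvPolynomial (Fin (r + 1)) k →ₗ[k] k :=
    { toFun := fun f => grad v f ⬝ᵥ w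
      map_add' := fun f f' => by rw [map_add, add_dotProduct]
      map_smul' := fun c f => by rw [map_smul, smul_dotProduct, RingHom.id_apply] }
  have hDw : ∀ f f', Dw (f * f') = eval v f * Dw f' + eval v f' * Dw f := fun f f' => by
    simp only [Dw, LinearMap.coe_mk, AddHom.coe_mk, dotProduct, grad_apply, pderiv_mul, map_add, map_mul,
      add_mul, Finset.sum_add_distrib, Finset.mul_sum]
    rw [add_comm]
    refine congrArg₂ (· + ·) (Finset.sum_congr rfl fun l _ => by ring) (Finset.sum_congr rfl fun l _ => by ring)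
  obtain ⟨Φ₀, hΦ₀⟩ := exists_dualNumberHom (aeval v) Dw fun f f' => by
    simpa [aeval_eq_eval] using hDw f f'
  have hker : ∀ f : MvPolynomial (Fin (r + 1)) k, aeval gU f = 0 → Φ₀ f = 0 := fun f hf => by
    obtain ⟨e, F, hF, c, hFc⟩ := exists_homogenize j f
    have h1 : aeval gU F = 0 := by rw [hFc]; simp [hf, hc.one]
    have hFJ := hc.rel F e hF h1
    have hev : eval v f = 0 := by
      have h2 : eval v F = 0 := by
        rw [eval_comp, show aeval g F = algebraMap U A (aeval gU F) by
          rw [← aeval_algebraMap_apply]; exact congrArg (fun t => aeval t F) (funext fun l => (hc.comp l).symm),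
          h1, map_zero, map_zero]
      rw [hFc] at h2
      simpa [hvj] using h2
    have h3 : Dw F = 0 := hw F hFJ
    rw [hFc, map_add, hDw, map_sub] at h3
    have hX : Dw (X j) = 0 := by
      show grad v (X j) ⬝ᵥ w = 0
      simp [dotProduct, grad_apply, pderiv_X, Pi.single_apply, hwj]
    have hone : Dw 1 = 0 := by
      show grad v 1 ⬝ᵥ w = 0
      simp [dotProduct, grad_apply]
    refine TrivSqZeroExt.ext ?_ ?_
    · rw [(hΦ₀ f).1, aeval_eq_eval]; exact hev
    · rw [(hΦ₀ f).2]
      simpa [hX, hone, hvj] using h3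
  let ΦU : U →ₐ[k] TrivSqZeroExt k k :=
    AlgHom.liftOfSurjective (aeval gU) hc.surj Φ₀ fun f hf => hker f hf
  have hΦU : ∀ u, (ΦU u).fst = pU u := fun u => by
    obtain ⟨f, rfl⟩ := hc.surj u
    rw [AlgHom.liftOfSurjective_apply, (hΦ₀ f).1, aeval_eq_eval, eval_comp]
    show p (aeval g f) = p (algebraMap U A (aeval gU f))
    rw [← aeval_algebraMap_apply]
    exact congrArg (fun t => p (aeval t f)) (funext fun l => (hc.comp l).symm)
  have hu : ∀ y : Submonoid.powers h, IsUnit (ΦU y) := fun y => by
    rw [TrivSqZeroExt.isUnit_iff_isUnit_fst, hΦU]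
    exact (IsLocalization.map_units A y).map p
  let Φ : A →ₐ[k] TrivSqZeroExt k k := IsLocalization.liftAlgHom (M := Submonoid.powers h) (S := A) (f := ΦU) hu
  have hΦU' : ∀ u, Φ (algebraMap U A u) = ΦU u := fun u => IsLocalization.lift_eq _ u
  have hΦ : ∀ a, (Φ a).fst = p a := by
    have h' : (TrivSqZeroExt.fstHom k k k).comp Φ = p := by
      refine AlgHom.coe_ringHom_injective (IsLocalization.ringHom_ext (Submonoid.powers h) (RingHom.ext fun u => ?_))
      show (Φ (algebraMap U A u)).fst = p (algebraMap U A u)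
      rw [hΦU', hΦU]
      rfl
    exact fun a => AlgHom.congr_fun h' a
  obtain ⟨ℓ, hℓs, hℓD⟩ := exists_functional p Φ hΦ
  refine ⟨fun i => ℓ (b i), funext fun l => ?_⟩
  have hl : (Φ (g l)).snd = w l := by
    rw [← hc.comp, hΦU', ← aeval_X (R := k) gU l, AlgHom.liftOfSurjective_apply, (hΦ₀ _).2]
    show grad v (X l) ⬝ᵥ w = w l
    simp [dotProduct, grad_apply, pderiv_X, Pi.single_apply]
  rw [← hl, ← hℓD, Matrix.mulVec, dotProduct]
  conv_rhs => rw [← b.sum_repr (D k A (g l)), map_sum]
  exact Finset.sum_congr rfl fun i _ => (hℓs _ _).symm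

variable (hgen : Submodule.span A (Set.range fun l => D k A (g l)) = ⊤)

include hgen in
theorem tanMat_injective : Function.Injective (tanMat b g p).mulVec := by
  intro a a' haa
  rw [← sub_eq_zero]
  funext i
  have key : ∀ ω : Ω[A⁄k], ∑ i, p (b.repr ω i) * (a - a') i = 0 := fun ω => by
    induction (hgen.ge (Submodule.mem_top (x := ω))) using Submodule.span_induction with
    | mem x hx =>
      obtain ⟨l, rfl⟩ := hx
      have h := congrFun (show (tanMat b g p).mulVec (a - a') = 0 by rw [Matrix.mulVec_sub, haa, sub_self]) l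
      exact h
    | zero => simp
    | add x y _ _ hx hy =>
      simp only [map_add, Finsupp.add_apply, add_mul, Finset.sum_add_distrib]
      rw [hx, hy, add_zero]
    | smul c x _ hx =>
      simp only [map_smul, Finsupp.smul_apply, smul_eq_mul, map_mul, mul_assoc, ← Finset.mul_sum]
      rw [hx, mul_zero]
  simpa [Finsupp.single_apply] using key (b i)

include b hhom hzero hgen in
/-- The tangent space of the cone has dimension `n + 1`. -/
theorem IsConeChart.finrank_tanSp (hc : IsConeChart g j J U gU) (h : U) [IsLocalization.Away h A] :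
    Module.finrank k (tanSp J (p ∘ g)) = n + 1 := by
  let v := p ∘ g
  have hvj : v j = 1 := by show p (g j) = 1; rw [hc.g_one, map_one]
  have hGj : ∀ a, (tanMat b g p).mulVec a j = 0 := fun a => by
    simp [Matrix.mulVec, dotProduct, tanMat, hc.g_one]
  let T : (k × (Fin n → k)) →ₗ[k] (Fin (r + 1) → k) :=
    (LinearMap.toSpanSingleton k _ v).coprod (tanMat b g p).mulVecLin
  have hT : ∀ x, T x = x.1 • v + (tanMat b g p).mulVec x.2 := fun x => rfl
  have hTinj : Function.Injective T := by
    rw [injective_iff_map_eq_zero]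
    intro x hx
    rw [hT] at hx
    have h1 := congrFun hx j
    simp only [Pi.add_apply, Pi.smul_apply, smul_eq_mul, hvj, mul_one, hGj, add_zero, Pi.zero_apply] at h1
    rw [h1, zero_smul, zero_add] at hx
    exact Prod.ext h1 (tanMat_injective b g p hgen (hx.trans (Matrix.mulVec_zero _).symm))
  have hrange : LinearMap.range T = tanSp J v := by
    refine le_antisymm ?_ fun w hw => ?_
    · rintro _ ⟨x, rfl⟩
      rw [hT]
      exact Submodule.add_mem _ (Submodule.smul_mem _ _ (cone_vec_mem g p J hhom hzero)) (tanMat_mem b g p J hzero _)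
    · have hw' : w - w j • v ∈ tanSp J v :=
        Submodule.sub_mem _ hw (Submodule.smul_mem _ _ (cone_vec_mem g p J hhom hzero))
      obtain ⟨a, ha⟩ := hc.exists_preimage b g j p J h (w - w j • v) hw' (by simp [hvj])
      exact ⟨(w j, a), by rw [hT]; show w j • v + _ = w; rw [ha, add_sub_cancel]⟩
  rw [← hrange, LinearMap.finrank_range_of_inj hTinj]
  simp [add_comm]

include hhom hzero in
/-- Vanishing of value and differential is tangency to the cone. -/
theorem IsConeChart.condMap_eq_zero_iff (hc : IsConeChart g j J U gU) (h : U) [IsLocalization.Away h A]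
    {d : ℕ} {H : MvPolynomial (Fin (r + 1)) k} (hH : H.IsHomogeneous d) :
    (p (aeval g H) = 0 ∧ ∀ i, p (b.repr (D k A (aeval g H)) i) = 0) ↔
      eval (p ∘ g) H = 0 ∧ ∀ w ∈ tanSp J (p ∘ g), grad (p ∘ g) H ⬝ᵥ w = 0 := by
  classical
  rw [eval_comp]
  refine and_congr_right fun h0 => ⟨fun hi w hw => ?_, fun hw i => ?_⟩
  · have hvj : (p ∘ g) j = 1 := by show p (g j) = 1; rw [hc.g_one, map_one]
    obtain ⟨a, ha⟩ := hc.exists_preimage b g j p J h (w - w j • (p ∘ g))
      (Submodule.sub_mem _ hw (Submodule.smul_mem _ _ (cone_vec_mem g p J hhom hzero)))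
      (by rw [Pi.sub_apply, Pi.smul_apply, hvj, smul_eq_mul, mul_one, sub_self])
    have hv : grad (p ∘ g) H ⬝ᵥ (p ∘ g) = 0 := by
      have h := congrArg (eval (p ∘ g)) hH.sum_X_mul_pderiv
      rw [map_nsmul, eval_comp g p H, h0, nsmul_zero] at h
      rw [← h, dotProduct, map_sum]
      exact Finset.sum_congr rfl fun l _ => by rw [map_mul, eval_X, mul_comm]; rfl
    have h2 := grad_dot_mulVec b g p H a
    rw [ha, dotProduct_sub, dotProduct_smul, hv, smul_zero, sub_zero] at h2
    rw [h2]
    simp [hi]
  · have h2 := grad_dot_mulVec b g p H (Pi.single i 1)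
    rw [hw _ (tanMat_mem b g p J hzero _)] at h2
    simpa [Pi.single_apply] using h2.symm

end Chart

end Groth.Agent.H11Dual
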