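import Groth.Agent.H25Disc.Closed

/-!
Elimination: forms with a common zero of equations depending linearly on them form a closed set.
-/

set_option autoImplicit false
universe u

noncomputable section

namespace Groth.Agent.H11Dual

open MvPolynomial LefPen

variable {k : Type u} [Field k] [IsAlgClosed k] {r d : ℕ}

theorem exists_polyFun_noCommonZero {C C' : Type u} [Fintype C] [Fintype C']
    (F : C' → MvPolynomial (Fin (r + 1)) k) (eF : C' → ℕ) (hF : ∀ s, (F s).IsHomogeneous (eF s))
    (E : C → Form r k d →ₗ[k] MvPolynomial (Fin (r + 1)) k) (eE : C → ℕ) (hE : ∀ c G, (E c G).IsHomogeneous (eE c))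
    (G₀ : Form r k d)
    (h₀ : ∀ v : Fin (r + 1) → k, v ≠ 0 → (∀ s, eval v (F s) = 0) → ¬ ∀ c, eval v (E c G₀) = 0) :
    ∃ f : Form r k d → k, IsPolyFun k f ∧ f G₀ ≠ 0 ∧
      ∀ (G : Form r k d) (v : Fin (r + 1) → k), v ≠ 0 → (∀ s, eval v (F s) = 0) →
        (∀ c, eval v (E c G) = 0) → f G = 0 := by
  classical
  let eqn : Form r k d → C ⊕ C' → MvPolynomial (Fin (r + 1)) k := fun G => Sum.elim (fun c => E c G) F
  let eD : C ⊕ C' → ℕ := Sum.elim eE eF
  have heqn : ∀ G o, (eqn G o).IsHomogeneous (eD o) := fun G o => by cases o <;> simp [eqn, eD, hE, hF]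
  let I := Ideal.span (Set.range (eqn G₀))
  have hrad : ∀ j, X j ∈ I.radical := by
    intro j
    rw [← vanishingIdeal_zeroLocus_eq_radical (K := k) I, mem_vanishingIdeal_iff]
    intro v hv
    rw [aeval_eq_eval, eval_X]
    by_contra hvj
    refine h₀ v (fun e => hvj (by rw [e]; rfl)) (fun s => ?_) fun c => ?_
    · exact (aeval_eq_eval v ▸ (mem_zeroLocus_iff.mp hv) _ (Ideal.subset_span ⟨Sum.inr s, rfl⟩) : _)
    · exact (aeval_eq_eval v ▸ (mem_zeroLocus_iff.mp hv) _ (Ideal.subset_span ⟨Sum.inl c, rfl⟩) : _)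
  choose m hm using hrad
  let M := Finset.univ.sup m
  let N := (r + 1) * M + (∑ o, eD o) + 1
  have heD : ∀ o, eD o ≤ N := fun o =>
    (Finset.single_le_sum (fun o _ => Nat.zero_le (eD o)) (Finset.mem_univ o)).trans (by omega)
  have hforms : ∀ φ : MvPolynomial (Fin (r + 1)) k, φ.IsHomogeneous N → φ ∈ I := by
    intro φ hφ
    rw [← support_sum_monomial_coeff φ]
    refine Ideal.sum_mem _ fun a ha => ?_
    obtain ⟨j, hj⟩ : ∃ j, M ≤ a j := by
      by_contra! hc
      have h1 : a.degree = N := by
        have := hφ (mem_support_iff.mp ha)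
        rwa [show (Finsupp.weight (1 : Fin (r + 1) → ℕ)) a = a.degree by
          rw [Finsupp.degree_eq_weight_one]; rfl] at this
      have h2 : a.degree ≤ (r + 1) * M := by
        rw [Finsupp.degree_apply]
        refine (Finset.sum_le_sum fun j _ => (hc j).le).trans ?_
        rw [Finset.sum_const, smul_eq_mul]
        exact Nat.mul_le_mul_right _ ((Finset.card_le_univ _).trans (Fintype.card_fin _).le)
      omega
    have h3 : (monomial a (coeff a φ)) = monomial (a - Finsupp.single j (m j)) (coeff a φ) * X j ^ m j := by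
      rw [X_pow_eq_monomial, monomial_mul, mul_one, tsub_add_cancel_of_le]
      exact Finsupp.single_le_iff.mpr ((Finset.le_sup (Finset.mem_univ j)).trans hj)
    rw [h3]
    exact Ideal.mul_mem_left _ _ (hm j)
  let Φ : Form r k d → ((∀ o : C ⊕ C', Form r k (N - eD o)) →ₗ[k] Form r k N) := fun G =>
    { toFun := fun a => ⟨∑ o, (a o).1 * eqn G o, IsHomogeneous.sum _ _ _ fun o _ => by
          have hh := IsHomogeneous.mul ((a o).2 : (a o).1.IsHomogeneous _) (heqn G o)
          rwa [Nat.sub_add_cancel (heD o)] at hh⟩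
      map_add' := fun a a' => Subtype.ext (by simp [add_mul, Finset.sum_add_distrib])
      map_smul' := fun t a => Subtype.ext (by simp [Finset.smul_sum]) }
  have hsurj : Function.Surjective (Φ G₀) := by
    intro φ
    have hmem := hforms φ.1 φ.2
    rw [Ideal.mem_span_range_iff_exists_fun] at hmem
    obtain ⟨a, ha⟩ := hmem
    refine ⟨fun o => ⟨homogeneousComponent (N - eD o) (a o), homogeneousComponent_isHomogeneous _ _⟩,
      Subtype.ext ?_⟩
    show ∑ o, homogeneousComponent (N - eD o) (a o) * eqn G₀ o = φ.1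
    have hcomp := congrArg (homogeneousComponent N) ha
    rw [map_sum, homogeneousComponent_of_mem φ.2, if_pos rfl] at hcomp
    rw [← hcomp]
    exact Finset.sum_congr rfl fun o _ =>
      (H25Disc.homogeneousComponent_mul_right (heD o) _ _ (heqn G₀ o)).symm
  have : Module.Finite k (Form r k N) := Module.Finite.of_basis (H25Disc.monBasis k r N)
  obtain ⟨s, hs⟩ := (Φ G₀).exists_rightInverse_of_surjective (LinearMap.range_eq_top.mpr hsurj)
  let B := H25Disc.monBasis k r N
  let A := Algebra.adjoin k (Set.range (fun l : Module.Dual k (Form r k d) => (l : Form r k d → k)))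
  have hentry : ∀ a b, (fun G => LinearMap.toMatrix B B (Φ G ∘ₗ s) a b) ∈ A := fun a b => by
    let l : Module.Dual k (Form r k d) :=
      { toFun := fun G => LinearMap.toMatrix B B (Φ G ∘ₗ s) a b - LinearMap.toMatrix B B (Φ 0 ∘ₗ s) a b
        map_add' := fun G G' => by
          have h : Φ (G + G') ∘ₗ s + Φ 0 ∘ₗ s = Φ G ∘ₗ s + Φ G' ∘ₗ s := by
            ext z
            simp only [LinearMap.add_apply, LinearMap.comp_apply, Φ, LinearMap.coe_mk, AddHom.coe_mk,
              Submodule.coe_add, ← Finset.sum_add_distrib]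
            congr 1
            refine Finset.sum_congr rfl fun o _ => ?_
            cases o <;> simp [eqn, mul_add]
          have h' := congrFun₂ (congrArg (LinearMap.toMatrix B B) h) a b
          simp only [map_add, Matrix.add_apply] at h'
          linear_combination h'
        map_smul' := fun t G => by
          have h : Φ (t • G) ∘ₗ s + t • (Φ 0 ∘ₗ s) = t • (Φ G ∘ₗ s) + Φ 0 ∘ₗ s := by
            ext z
            simp only [LinearMap.add_apply, LinearMap.smul_apply, LinearMap.comp_apply, Φ, LinearMap.coe_mk,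
              AddHom.coe_mk, Submodule.coe_add, Submodule.coe_smul, Finset.smul_sum, ← Finset.sum_add_distrib]
            congr 1
            refine Finset.sum_congr rfl fun o _ => ?_
            cases o <;> simp [eqn] <;> ring
          have h' := congrFun₂ (congrArg (LinearMap.toMatrix B B) h) a b
          simp only [map_add, map_smul, Matrix.add_apply, Matrix.smul_apply, smul_eq_mul] at h'
          rw [RingHom.id_apply, smul_eq_mul]
          linear_combination h' }
    have : (fun G => LinearMap.toMatrix B B (Φ G ∘ₗ s) a b) =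
        (l : Form r k d → k) + algebraMap k _ (LinearMap.toMatrix B B (Φ 0 ∘ₗ s) a b) := by
      ext G; simp [l]
    rw [this]
    exact A.add_mem (Algebra.subset_adjoin ⟨l, rfl⟩) (A.algebraMap_mem _)
  let MA : Matrix (H25Disc.Mon r N) (H25Disc.Mon r N) A := fun a b => ⟨_, hentry a b⟩
  have hdet : ∀ G, (MA.det).1 G = LinearMap.det ((Φ G) ∘ₗ s) := by
    intro G
    have hev := RingHom.map_det
      ((Pi.evalRingHom (fun _ : Form r k d => k) G).comp (A.val : A →ₐ[k] _).toRingHom) MA
    rw [← LinearMap.det_toMatrix B]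
    exact hev
  refine ⟨MA.det.1, MA.det.2, ?_, fun G v hv hFv hEv => ?_⟩
  · rw [hdet, hs, LinearMap.det_id]
    exact one_ne_zero
  · rw [hdet]
    by_contra hne
    obtain ⟨j, hj⟩ : ∃ j, v j ≠ 0 := by
      by_contra! hc
      exact hv (funext hc)
    obtain ⟨z, hz⟩ := (LinearMap.equivOfDetNeZero _ hne).surjective
      (⟨X j ^ N, by simpa using (isHomogeneous_X k j).pow N⟩ : Form r k N)
    change Φ G (s z) = _ at hz
    have h1 := congrArg (fun φ : Form r k N => eval v φ.1) hz
    change eval v (∑ o, _ * eqn G o) = eval v (X j ^ N) at h1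
    rw [map_sum, Finset.sum_eq_zero fun o _ => by
      rw [map_mul, show eval v (eqn G o) = 0 by cases o <;> simp [eqn, hFv, hEv], mul_zero]] at h1
    simp at h1
    exact pow_ne_zero _ hj h1.symm

end Groth.Agent.H11Dual
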