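import Mathlib

/-!
Membership in a span of known dimension by vanishing of minors.
-/

set_option autoImplicit false
set_option linter.unusedSectionVars false
universe u

namespace Groth.Agent.H11Dual

open Matrix

variable {k : Type u} [Field k] {r : ℕ} {ι : Type*} [Fintype ι]

theorem exists_minor_ne_zero {m : ℕ} (N : Matrix (Fin m) (Fin (r + 1)) k) (hN : LinearIndependent k N.row) :
    ∃ K : Fin m → Fin (r + 1), (N.submatrix id K).det ≠ 0 := by
  classical
  have hrank : N.rank = m := by
    rw [Matrix.rank_eq_finrank_span_row, finrank_span_eq_card hN, Fintype.card_fin]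
  obtain ⟨f, hf, -, hli⟩ := Submodule.exists_fun_fin_finrank_span_eq k (Set.range N.col)
  choose g hg using hf
  have hm : Module.finrank k (Submodule.span k (Set.range N.col)) = m := by
    rw [← Matrix.rank_eq_finrank_span_cols, hrank]
  refine ⟨g ∘ (finCongr hm).symm, ?_⟩
  have hcols : LinearIndependent k (N.submatrix id (g ∘ (finCongr hm).symm)).col := by
    have : (N.submatrix id (g ∘ (finCongr hm).symm)).col = f ∘ (finCongr hm).symm :=
      funext fun x => hg _
    rw [this]
    exact hli.comp _ (finCongr hm).symm.injective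
  rw [Matrix.linearIndependent_cols_iff_isUnit, Matrix.isUnit_iff_isUnit_det] at hcols
  exact hcols.ne_zero

theorem finrank_span_rows (G : ι → Fin (r + 1) → k) :
    Module.finrank k (Submodule.span k (Set.range G)) +
      Module.finrank k (LinearMap.ker (Matrix.of G).mulVecLin) = r + 1 := by
  have h := LinearMap.finrank_range_add_finrank_ker (Matrix.of G).mulVecLin
  rw [Module.finrank_pi, Fintype.card_fin] at h
  refine Eq.trans ?_ h
  congr 1
  exact (Matrix.rank_eq_finrank_span_row (Matrix.of G)).symm

/-- For rows spanning a space of dimension `c`, orthogonality to their annihilator is the vanishing of all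
minors of size `c + 1` containing the vector. -/
theorem forall_dot_eq_zero_iff (G : ι → Fin (r + 1) → k) {c : ℕ}
    (hc : Module.finrank k (Submodule.span k (Set.range G)) = c) (h : Fin (r + 1) → k) :
    (∀ w, (∀ i, G i ⬝ᵥ w = 0) → h ⬝ᵥ w = 0) ↔
      ∀ (S : Fin c → ι) (K : Fin (c + 1) → Fin (r + 1)),
        ((Matrix.of (Fin.cons h (G ∘ S) : Fin (c + 1) → Fin (r + 1) → k)).submatrix id K).det = 0 := by
  classical
  have hspan : (∀ w, (∀ i, G i ⬝ᵥ w = 0) → h ⬝ᵥ w = 0) ↔ h ∈ Submodule.span k (Set.range G) := by
    refine ⟨fun hw => ?_, fun hh w hw => ?_⟩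
    · by_contra hne
      obtain ⟨φ, hφh, hφ⟩ := Submodule.exists_dual_map_eq_bot_of_notMem hne inferInstance
      have hφw : ∀ x, φ x = x ⬝ᵥ fun l => φ (Pi.single l 1) := fun x => by
        conv_lhs => rw [pi_eq_sum_univ' x]
        simp [dotProduct, map_sum]
      refine hφh ((hφw h).trans (hw _ fun i => ?_))
      rw [← hφw]
      exact (Submodule.mem_bot k).1 (hφ ▸ Submodule.mem_map_of_mem (Submodule.subset_span ⟨i, rfl⟩))
    · induction hh using Submodule.span_induction with
      | mem x hx => obtain ⟨i, rfl⟩ := hx; exact hw i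
      | zero => exact zero_dotProduct _
      | add x y _ _ hx hy => rw [add_dotProduct, hx, hy, add_zero]
      | smul a x _ hx => rw [smul_dotProduct, hx, smul_zero]
  rw [hspan]
  refine ⟨fun hh S K => ?_, fun hdet => ?_⟩
  · by_contra hne
    have hrows : LinearIndependent k (Fin.cons h (G ∘ S) : Fin (c + 1) → Fin (r + 1) → k) := by
      have h1 := Matrix.linearIndependent_rows_of_det_ne_zero hne
      refine LinearIndependent.of_comp (LinearMap.funLeft k k K) ?_
      exact h1
    have h2 := Submodule.finrank_mono (show Submodule.span k (Set.range (Fin.cons h (G ∘ S) : Fin (c + 1) → Fin (r + 1) → k)) ≤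
        Submodule.span k (Set.range G) by
      rw [Submodule.span_le]
      rintro _ ⟨x, rfl⟩
      induction x using Fin.cases with
      | zero => simpa using hh
      | succ x => simpa using Submodule.subset_span (Set.mem_range_self (f := G) (S x)))
    rw [finrank_span_eq_card hrows, Fintype.card_fin, hc] at h2
    omega
  · by_contra hne
    obtain ⟨f, hf, hfspan, hli⟩ := Submodule.exists_fun_fin_finrank_span_eq k (Set.range G)
    choose g hg using hf
    subst hc
    have hGg : G ∘ g = f := funext hg
    have hcons : LinearIndependent k (Fin.cons h (G ∘ g) : Fin _ → Fin (r + 1) → k) := by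
      rw [hGg, linearIndependent_finCons]
      exact ⟨hli, by rw [hfspan]; exact hne⟩
    obtain ⟨K, hK⟩ := exists_minor_ne_zero (Matrix.of (Fin.cons h (G ∘ g) : Fin _ → Fin (r + 1) → k)) hcons
    exact hK (hdet g K)

end Groth.Agent.H11Dual
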