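import Groth.Agent.H11Dual.Trans
import Groth.Agent.H11Dual.Rank
import Groth.Agent.H11Dual.Elim

/-!
The dual cone is closed and irreducible.
-/

set_option autoImplicit false
set_option linter.style.haveILetI false
set_option linter.unusedSectionVars false
universe u

open CategoryTheory CategoryTheory.Limits AlgebraicGeometry Opposite LefPen TopologicalSpace

noncomputable section

namespace Groth.Agent.H11Dual

open MvPolynomial H25Transversal H25Param

variable {k : Type u} [Field k]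

section Kernel

variable {V R : Type u} [AddCommGroup V] [Module k V] [CommRing R] [Algebra k R] {κ : Type} [Fintype κ]
  [DecidableEq κ] {N : ℕ} (b : Module.Basis (Fin N) k V) (L : V →ₗ[k] κ → R) (S : κ ↪ Fin N)

open scoped Classical in
theorem sum_L_kernelVec (x : κ) : ∑ l, C (L (b l) x) * kernelVec b L S l = 0 := by
  have h1 : ∀ y, kernelVec b L S (S y) = - ∑ z, C ((pivotMat b L S).adjugate y z) * freeImage b L S z := fun y => by
    have h : S y ∈ Set.range S := ⟨y, rfl⟩
    rw [kernelVec, dif_pos h, S.injective (Classical.choose_spec h)]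
  rw [← Fintype.sum_subtype_add_sum_subtype (fun l => l ∈ Set.range S) fun l => C (L (b l) x) * kernelVec b L S l]
  have h2 : (∑ l : {l // l ∈ Set.range S}, C (L (b l.1) x) * kernelVec b L S l.1) =
      - (C (pivotMat b L S).det * freeImage b L S x) := by
    letI : Fintype {l // l ∈ Set.range S} := Set.fintypeRange S
    rw [show (∑ l : {l // l ∈ Set.range S}, C (L (b l.1) x) * kernelVec b L S l.1) =
        ∑ y, C (L (b (S y)) x) * kernelVec b L S (S y) from
      ((Fintype.sum_equiv (Equiv.ofInjective S S.injective) (fun y => C (L (b (S y)) x) * kernelVec b L S (S y))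
        (fun l => C (L (b l.1) x) * kernelVec b L S l.1) fun _ => rfl).trans
          (Finset.sum_congr (Finset.ext fun x => by simp) fun _ _ => rfl)).symm]
    simp only [h1, mul_neg, Finset.sum_neg_distrib, Finset.mul_sum, ← mul_assoc, ← map_mul]
    rw [Finset.sum_comm]
    refine congrArg Neg.neg ?_
    simp only [← Finset.sum_mul, ← map_sum]
    have hadj : ∀ z, ∑ y, L (b (S y)) x * (pivotMat b L S).adjugate y z =
        if x = z then (pivotMat b L S).det else 0 := fun z => by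
      have h := congrFun₂ (Matrix.mul_adjugate (pivotMat b L S)) x z
      rw [Matrix.mul_apply, Matrix.smul_apply, Matrix.one_apply, smul_eq_mul, mul_ite, mul_one, mul_zero] at h
      exact h
    simp only [hadj, apply_ite C, map_zero, ite_mul, zero_mul, Finset.sum_ite_eq, Finset.mem_univ, if_true]
  have h3 : (∑ l : {l // l ∉ Set.range S}, C (L (b l.1) x) * kernelVec b L S l.1) =
      C (pivotMat b L S).det * freeImage b L S x := by
    rw [freeImage, Finset.mul_sum]
    refine Finset.sum_congr rfl fun l _ => ?_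
    rw [kernelVec, dif_neg l.2]
    ring
  refine (congrArg₂ (· + ·) ?_ h3).trans (neg_add_cancel _)
  convert h2 using 2
  exact Finset.ext fun l => by simp

open scoped Classical in
/-- Values of the kernel vector lie in the kernel. -/
theorem evalAt_kernelVec (q : MvPolynomial {l : Fin N // l ∉ Set.range S} R →ₐ[k] k) :
    evalAt L (q.comp (IsScalarTower.toAlgHom k R _)) (∑ l, q (kernelVec b L S l) • b l) = 0 := by
  funext x
  have h := congrArg q (sum_L_kernelVec b L S x)
  rw [map_sum, map_zero] at h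
  rw [map_sum, Finset.sum_apply]
  refine Eq.trans (Finset.sum_congr rfl fun l _ => ?_) h
  rw [map_smul, Pi.smul_apply, smul_eq_mul, evalAt_apply, map_mul, mul_comm]
  rfl

end Kernel

theorem eq_zero_of_forall_point [IsAlgClosed k] {B : Type u} [CommRing B] [IsDomain B] [Algebra k B]
    [Algebra.FiniteType k B] (x : B) (hx : ∀ q : B →ₐ[k] k, q x = 0) : x = 0 := by
  by_contra hne
  haveI : Nontrivial (Localization.Away x) :=
    (IsLocalization.injective (Localization.Away x) (powers_le_nonZeroDivisors_of_noZeroDivisors hne)).nontrivial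
  haveI : Algebra.FiniteType k (Localization.Away x) :=
    Algebra.FiniteType.trans (S := B) inferInstance inferInstance
  obtain ⟨p, -⟩ := H25Transversal.exists_point (k := k) (A := Localization.Away x) (I := ⊥) bot_ne_top
  have h := (IsLocalization.Away.algebraMap_isUnit (S := Localization.Away x) x).map p
  rw [show p (algebraMap B _ x) = (p.comp (IsScalarTower.toAlgHom k B _)) x from rfl, hx] at h
  exact not_isUnit_zero h

variable [IsAlgClosed k] {r n d : ℕ} {X : Scheme.{u}} (i : X ⟶ CohB1.ProjSpace r k)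
  [IsClosedImmersion i] [IsIntegral X] [SmoothOfRelativeDimension n (i ≫ CohB1.ProjSpace.toSpec r k)]

theorem exists_generators :
    ∃ (ι : Type u) (_ : Fintype ι) (G : ι → MvPolynomial (Fin (r + 1)) k) (e : ι → ℕ),
      (∀ s, (G s).IsHomogeneous (e s) ∧ G s ∈ eqsSet i) ∧ ∀ F ∈ eqsSet i, F ∈ Ideal.span (Set.range G) := by
  classical
  obtain ⟨T, hT, hTspan⟩ := (Submodule.fg_span_iff_fg_span_finset_subset (R := MvPolynomial (Fin (r + 1)) k) (eqsSet i)).1
    (IsNoetherian.noetherian _)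
  choose e he using fun s : T => (hT s.2).1
  refine ⟨T, inferInstance, fun s => s.1, e, fun s => ⟨he s, hT s.2⟩, fun F hF => ?_⟩
  have h : F ∈ Submodule.span (MvPolynomial (Fin (r + 1)) k) (eqsSet i) := Submodule.subset_span hF
  rw [hTspan] at h
  rw [show (Set.range fun s : T => s.1) = (T : Set (MvPolynomial (Fin (r + 1)) k)) from Subtype.range_coe]
  exact h

theorem tanSp_eq {ι : Type u} [Fintype ι] (G : ι → MvPolynomial (Fin (r + 1)) k) (hG : ∀ s, G s ∈ eqsSet i)
    (hgen : ∀ F ∈ eqsSet i, F ∈ Ideal.span (Set.range G)) (v : Fin (r + 1) → k) (hv : ∀ s, eval v (G s) = 0) :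
    (∀ F ∈ eqsSet i, eval v F = 0) ∧
      ∀ w, w ∈ tanSp (eqsSet i) v ↔ ∀ s, dotProduct (grad v (G s)) w = 0 := by
  refine ⟨fun F hF => ?_, fun w => ⟨fun hw s => hw _ (hG s), fun hw F hF => ?_⟩⟩
  · obtain ⟨c, rfl⟩ := Ideal.mem_span_range_iff_exists_fun.1 (hgen F hF)
    simp [hv]
  · obtain ⟨c, rfl⟩ := Ideal.mem_span_range_iff_exists_fun.1 (hgen F hF)
    have : grad v (∑ s, c s * G s) = ∑ s, eval v (c s) • grad v (G s) := funext fun l => by
      simp [grad_apply, Finset.sum_apply, hv]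
    rw [this, sum_dotProduct]
    refine Finset.sum_eq_zero fun s _ => ?_
    rw [smul_dotProduct, hw s, smul_zero]

theorem finrank_tanSp_zero {v : Fin (r + 1) → k} (hv : v ≠ 0) (hJ : ∀ F ∈ eqsSet i, eval v F = 0) :
    Module.finrank k (tanSp (eqsSet i) v) = n + 1 := by
  obtain ⟨j, h, p₀, c, hc0, hstd, hp₀, hcv⟩ := exists_point_of_zero (n := n) i hv hJ
  letI : Algebra k Γ(X, i ⁻¹ᵁ chart r k j) := (scal i _).toAlgebra
  letI : Algebra k Γ(X, X.basicOpen h) := (scal i _).toAlgebra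
  letI : Algebra Γ(X, i ⁻¹ᵁ chart r k j) Γ(X, X.basicOpen h) :=
    (X.presheaf.map (homOfLE (X.basicOpen_le h)).op).hom.toAlgebra
  have hA : ChartAlg i j h := ⟨rfl, rfl, rfl⟩
  let p : Γ(X, X.basicOpen h) →ₐ[k] k := AlgHom.mk p₀ hp₀
  haveI : Algebra.IsStandardSmoothOfRelativeDimension n k Γ(X, X.basicOpen h) := hstd
  haveI : Nontrivial Γ(X, X.basicOpen h) := ⟨0, 1, fun h01 => zero_ne_one (α := k) (by rw [← map_zero p, h01, map_one])⟩
  obtain ⟨b, -, -⟩ := exists_basis_D (k := k) (A := Γ(X, X.basicOpen h)) n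
  have h1 := hA.finrank_tanSp b p
  rw [← tanSp_smul i hc0 v, hcv]
  exact h1

/-- **the transversal forms form an open set**. -/
theorem isZOpen_transversal (hn : 1 ≤ n) :
    IsZOpen k {H : Form r k d | Transversal k n 1 (secToSpec i ({H} : Set (Form r k d)))} := by
  classical
  intro H₀ hH₀
  rw [Set.mem_ofPred_eq, transversal_iff i hn] at hH₀
  obtain ⟨ι, _, G, e, hG, hgen⟩ := exists_generators i
  let c := r - n
  let Cidx : Type u := Option ((Fin c → ι) × (Fin (c + 1) → Fin (r + 1)))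
  let M : (Fin c → ι) × (Fin (c + 1) → Fin (r + 1)) → Fin (c + 1) → MvPolynomial (Fin (r + 1)) k :=
    fun SK l => ((-1) ^ (l : ℕ)) *
      ((Matrix.of fun a b => pderiv (SK.2 b) (G (SK.1 a)) : Matrix (Fin c) (Fin (c + 1)) _).submatrix id l.succAbove).det
  have hM : ∀ SK l, (M SK l).IsHomogeneous (∑ a, (e (SK.1 a) - 1)) := fun SK l => by
    have hdet : ((Matrix.of fun a b => pderiv (SK.2 b) (G (SK.1 a)) : Matrix (Fin c) (Fin (c + 1)) _).submatrix id l.succAbove).det.IsHomogeneous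
        (∑ a, (e (SK.1 a) - 1)) := by
      rw [Matrix.det_apply']
      refine IsHomogeneous.sum _ _ _ fun σ _ => ?_
      rw [show ((Equiv.Perm.sign σ : ℤ) : MvPolynomial (Fin (r + 1)) k) = MvPolynomial.C ((Equiv.Perm.sign σ : ℤ) : k) by simp]
      refine IsHomogeneous.C_mul ?_ _
      rw [← Equiv.sum_comp σ (fun a => e (SK.1 a) - 1)]
      exact IsHomogeneous.prod _ _ _ fun a _ => ((hG (SK.1 (σ a))).1).pderiv
    rw [show M SK l = MvPolynomial.C ((-1 : k) ^ (l : ℕ)) *
        ((Matrix.of fun a b => pderiv (SK.2 b) (G (SK.1 a)) : Matrix (Fin c) (Fin (c + 1)) _).submatrix id l.succAbove).det by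
      simp only [M, map_pow, map_neg, map_one]]
    exact hdet.C_mul _
  let E : Cidx → Form r k d →ₗ[k] MvPolynomial (Fin (r + 1)) k := fun o => o.elim
    (CohB1.polyGrading r k d).subtype fun SK =>
      ∑ l, (LinearMap.mulLeft k (M SK l)) ∘ₗ (pderiv (SK.2 l)).toLinearMap ∘ₗ (CohB1.polyGrading r k d).subtype
  let eE : Cidx → ℕ := fun o => o.elim d fun SK => ∑ a, (e (SK.1 a) - 1) + (d - 1)
  have hE : ∀ o (H : Form r k d), (E o H).IsHomogeneous (eE o) := fun o H => by
    cases o with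
    | none => exact H.2
    | some SK =>
      simp only [E, eE, Option.elim_some, LinearMap.sum_apply, LinearMap.comp_apply, LinearMap.mulLeft_apply]
      exact IsHomogeneous.sum _ _ _ fun l _ => (hM SK l).mul (H.2 : H.1.IsHomogeneous d).pderiv
  have key : ∀ (H : Form r k d) (v : Fin (r + 1) → k), v ≠ 0 →
      (BadAt i H.1 v ↔ (∀ s, eval v (G s) = 0) ∧ ∀ o, eval v (E o H) = 0) := by
    intro H v hv
    have hdet : ∀ SK : (Fin c → ι) × (Fin (c + 1) → Fin (r + 1)), eval v (E (some SK) H) =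
        ((Matrix.of (Fin.cons (grad v H.1) ((fun s => grad v (G s)) ∘ SK.1) : Fin (c + 1) → Fin (r + 1) → k)).submatrix id SK.2).det := by
      intro SK
      rw [Matrix.det_succ_row_zero]
      simp only [E, Option.elim_some, LinearMap.sum_apply, LinearMap.comp_apply, LinearMap.mulLeft_apply, map_sum]
      refine Finset.sum_congr rfl fun l _ => ?_
      simp only [M, map_mul, map_pow, map_neg, map_one]
      rw [RingHom.map_det]
      simp only [Matrix.submatrix_apply, id, Matrix.of_apply, Fin.cons_zero]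
      rw [mul_right_comm]
      refine congrArg₂ (· * ·) rfl (congrArg Matrix.det (Matrix.ext fun a b => ?_))
      simp [grad_apply]
    by_cases hz : ∀ s, eval v (G s) = 0
    · obtain ⟨hJ, hW⟩ := tanSp_eq i G (fun s => (hG s).2) hgen v hz
      have hker : LinearMap.ker (Matrix.of fun s => grad v (G s)).mulVecLin = tanSp (eqsSet i) v := by
        ext w
        rw [LinearMap.mem_ker, hW, _root_.funext_iff]
        rfl
      have hrk := finrank_span_rows fun s => grad v (G s)
      rw [hker, finrank_tanSp_zero (n := n) i hv hJ] at hrk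
      have hiff := forall_dot_eq_zero_iff (fun s => grad v (G s)) (c := c) (by omega) (grad v H.1)
      constructor
      · rintro ⟨-, h2, h3⟩
        refine ⟨hz, fun o => ?_⟩
        cases o with
        | none => exact h2
        | some SK =>
          rw [hdet]
          exact hiff.1 (fun w hw => h3 w ((hW w).2 hw)) SK.1 SK.2
      · rintro ⟨-, ho⟩
        exact ⟨hJ, ho none, fun w hw => hiff.2 (fun S K => (hdet (S, K)) ▸ ho (some (S, K))) w ((hW w).1 hw)⟩
    · exact ⟨fun hb => absurd (fun s => hb.1 _ (hG s).2) hz, fun h => absurd h.1 hz⟩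
  obtain ⟨f, hf, hf0, hvan⟩ := exists_polyFun_noCommonZero G e (fun s => (hG s).1) E eE hE H₀
    fun v hv hF hEv => hH₀ v hv ((key H₀ v hv).2 ⟨hF, hEv⟩)
  refine ⟨f, hf, hf0, fun H hH => (transversal_iff i hn H).2 fun v hv hb => hH ?_⟩
  exact hvan H v hv ((key H v hv).1 hb).1 ((key H v hv).1 hb).2

theorem isDomain_of_point {j : Fin (r + 1)} {h : Γ(X, i ⁻¹ᵁ chart r k j)} (p : Γ(X, X.basicOpen h) →+* k) :
    IsDomain Γ(X, X.basicOpen h) := by
  haveI : Nonempty (X.basicOpen h) := by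
    by_contra hne
    haveI : Subsingleton Γ(X, X.basicOpen h) := by
      have : X.basicOpen h = ⊥ := eq_bot_iff.2 fun y hy => (hne ⟨⟨y, hy⟩⟩).elim
      rw [this]
      infer_instance
    exact one_ne_zero (α := k) (by rw [← map_one p, Subsingleton.elim (1 : Γ(X, X.basicOpen h)) 0, map_zero])
  infer_instance

theorem gA_self {j : Fin (r + 1)} (h : Γ(X, i ⁻¹ᵁ chart r k j)) : gA i j h j = 1 :=
  (congrArg _ (sec_X_self i j)).trans (map_one (X.presheaf.map (homOfLE (X.basicOpen_le h)).op).hom)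

omit [IsAlgClosed k] in
theorem eval_poly_sum {N : ℕ} (bas : Module.Basis (Fin N) k (Form r k d)) {B : Type u} [CommRing B] [Algebra k B]
    (kv : Fin N → B) (q : B →ₐ[k] k) (Q : MvPolynomial (Fin N) k) (F : Form r k d → k)
    (hQ : ∀ H, F H = eval (fun l => bas.repr H l) Q) :
    F (∑ l, q (kv l) • bas l) = q (MvPolynomial.aeval kv Q) := by
  rw [hQ, show (fun l => bas.repr (∑ l, q (kv l) • bas l) l) = fun l => q (kv l) from bas.repr_sum_self _]
  rw [← aeval_eq_eval]
  exact (comp_aeval_apply kv q Q).symm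

include n in
open scoped Classical in
set_option maxHeartbeats 800000 in
/-- Near one bad pair one of the two functions vanishes on all bad forms. -/
theorem exists_window (hd : 1 ≤ d)
    (f g : Form r k d → k) (hf : IsPolyFun k f) (hg : IsPolyFun k g)
    (hfg : ∀ H : Form r k d, (∃ v, v ≠ 0 ∧ BadAt i H.1 v) → f H * g H = 0)
    {v₀ : Fin (r + 1) → k} (hv₀ : v₀ ≠ 0) (hJ₀ : ∀ F ∈ eqsSet i, eval v₀ F = 0) :
    ∃ (e : ℕ) (P : MvPolynomial (Fin (r + 1)) k), P.IsHomogeneous e ∧ eval v₀ P ≠ 0 ∧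
      ((∀ (H : Form r k d) v, BadAt i H.1 v → eval v P ≠ 0 → f H = 0) ∨
        (∀ (H : Form r k d) v, BadAt i H.1 v → eval v P ≠ 0 → g H = 0)) := by
  haveI : Module.Finite k (Form r k d) := Module.Finite.of_basis (H25Disc.monBasis k r d)
  obtain ⟨j₀, h₀, p₀', c₀, hc₀, hstd₀, hp₀', hcv₀⟩ := exists_point_of_zero (n := n) i hv₀ hJ₀
  letI : Algebra k Γ(X, i ⁻¹ᵁ chart r k j₀) := (scal i _).toAlgebra
  letI : Algebra k Γ(X, X.basicOpen h₀) := (scal i _).toAlgebra
  letI : Algebra Γ(X, i ⁻¹ᵁ chart r k j₀) Γ(X, X.basicOpen h₀) :=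
    (X.presheaf.map (homOfLE (X.basicOpen_le h₀)).op).hom.toAlgebra
  have hA₀ : ChartAlg i j₀ h₀ := ⟨rfl, rfl, rfl⟩
  haveI := hA₀.isScalarTower
  haveI := hA₀.isLocalization
  obtain ⟨p₀, hp₀e⟩ : ∃ p₀ : Γ(X, X.basicOpen h₀) →ₐ[k] k, ∀ z, p₀ z = p₀' z :=
    ⟨AlgHom.mk p₀' hp₀', fun _ => rfl⟩
  haveI : Algebra.IsStandardSmoothOfRelativeDimension n k Γ(X, X.basicOpen h₀) := hstd₀
  haveI := isDomain_of_point i p₀'
  haveI : Algebra.FiniteType k Γ(X, X.basicOpen h₀) :=
    haveI := Algebra.IsStandardSmoothOfRelativeDimension.isStandardSmooth n (R := k) (S := Γ(X, X.basicOpen h₀))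
    inferInstance
  obtain ⟨b₀, -, -⟩ := exists_basis_D (k := k) (A := Γ(X, X.basicOpen h₀)) n
  generalize hbas : Module.finBasis k (Form r k d) = bas
  obtain ⟨S₀, hS₀⟩ := exists_pivot bas (condMap b₀ (formA i h₀ d)) p₀ (hA₀.surjective_evalAt b₀ hd p₀)
  have hdet₀ : p₀ (pivotMat bas (condMap b₀ (formA i h₀ d)) S₀).det ≠ 0 := by
    have hc : LinearIndependent k (((pivotMat bas (condMap b₀ (formA i h₀ d)) S₀).map p₀).col) := hS₀
    rw [Matrix.linearIndependent_cols_iff_isUnit, Matrix.isUnit_iff_isUnit_det] at hc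
    rw [AlgHom.map_det]
    exact hc.ne_zero
  obtain ⟨⟨u₁, hm, m, rfl⟩, hu₁⟩ := IsLocalization.surj (Submonoid.powers h₀)
    (pivotMat bas (condMap b₀ (formA i h₀ d)) S₀).det
  obtain ⟨a₁, ha₁⟩ := Scheme.Hom.app_surjective i (chart r k j₀) (chartU r k j₀).2 (h₀ * u₁)
  obtain ⟨f₁, rfl⟩ := polyToSection_surjective j₀ a₁
  obtain ⟨e₁, F₁, hF₁, c₁, hFc₁⟩ := exists_homogenize j₀ f₁
  have hF₁sec : sec i j₀ F₁ = h₀ * u₁ := by
    rw [hFc₁, map_add, map_mul, map_sub, sec_X_self, map_one, sub_self, mul_zero, add_zero]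
    exact ha₁
  refine ⟨1 + e₁, MvPolynomial.X j₀ * F₁, (isHomogeneous_X k j₀).mul hF₁, ?_, ?_⟩
  · intro h0
    have h1 : eval (c₀ • v₀) (MvPolynomial.X j₀ * F₁) = 0 := by
      rw [eval_smul_hom ((isHomogeneous_X k j₀).mul hF₁), h0, mul_zero]
    rw [hcv₀, show (⇑p₀' ∘ gA i j₀ h₀) = ⇑p₀ ∘ gA i j₀ h₀ from funext fun l => (hp₀e _).symm, eval_comp,
      hA₀.aeval_gA] at h1
    rw [map_mul, sec_X_self, one_mul, hF₁sec,
      show X.presheaf.map (homOfLE (X.basicOpen_le h₀)).op (h₀ * u₁) = algebraMap _ Γ(X, X.basicOpen h₀) (h₀ * u₁) from rfl,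
      map_mul, ← hu₁, map_mul, map_mul] at h1
    exact mul_ne_zero ((IsLocalization.Away.algebraMap_isUnit (S := Γ(X, X.basicOpen h₀)) h₀).map p₀).ne_zero
      (mul_ne_zero hdet₀
        ((IsLocalization.map_units Γ(X, X.basicOpen h₀) (⟨h₀ ^ m, m, rfl⟩ : Submonoid.powers h₀)).map p₀).ne_zero) h1
  obtain ⟨Qf, hQf⟩ := exists_eval_of_isPolyFun bas hf
  obtain ⟨Qg, hQg⟩ := exists_eval_of_isPolyFun bas hg
  have hprod : MvPolynomial.aeval (R := k) (kernelVec bas (condMap b₀ (formA i h₀ d)) S₀) Qf *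
      MvPolynomial.aeval (R := k) (kernelVec bas (condMap b₀ (formA i h₀ d)) S₀) Qg = 0 := by
    haveI : Algebra.FiniteType k
        (MvPolynomial {l : Fin (Module.finrank k (Form r k d)) // l ∉ Set.range S₀} Γ(X, X.basicOpen h₀)) :=
      Algebra.FiniteType.trans (S := Γ(X, X.basicOpen h₀)) inferInstance inferInstance
    refine eq_zero_of_forall_point (k := k) _ fun q => ?_
    rw [map_mul, ← eval_poly_sum bas _ q Qf f hQf, ← eval_poly_sum bas _ q Qg g hQg]
    refine hfg _ ⟨(q.comp (IsScalarTower.toAlgHom k Γ(X, X.basicOpen h₀) _)) ∘ gA i j₀ h₀, fun h0 => ?_,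
      (hA₀.badAt_iff b₀ _ _).2 (evalAt_kernelVec bas (condMap b₀ (formA i h₀ d)) S₀ q)⟩
    have := congrFun h0 j₀
    rw [Function.comp_apply, gA_self i h₀, map_one] at this
    exact one_ne_zero this
  suffices key : ∀ (F : Form r k d → k) (Q : MvPolynomial (Fin (Module.finrank k (Form r k d))) k),
      (∀ H, F H = eval (fun l => bas.repr H l) Q) →
      MvPolynomial.aeval (R := k) (kernelVec bas (condMap b₀ (formA i h₀ d)) S₀) Q = 0 →
      ∀ (H : Form r k d) v, BadAt i H.1 v → eval v (MvPolynomial.X j₀ * F₁) ≠ 0 → F H = 0 by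
    rcases mul_eq_zero.1 hprod with h | h
    · exact Or.inl (key f Qf hQf h)
    · exact Or.inr (key g Qg hQg h)
  intro F Q hQ hzero H₁ v₁ hb₁ hPv
  rw [map_mul, eval_X] at hPv
  have hvj : v₁ j₀ ≠ 0 := left_ne_zero_of_mul hPv
  have hb₂ : BadAt i H₁.1 ((v₁ j₀)⁻¹ • v₁) := badAt_smul i H₁.2 (inv_ne_zero hvj) hb₁
  obtain ⟨qU, hqU⟩ := exists_point_U i hA₀ (nonempty_of_point p₀) ((v₁ j₀)⁻¹ • v₁) (inv_mul_cancel₀ hvj) hb₂.1
  have hqF : qU (h₀ * u₁) ≠ 0 := by
    rw [← hF₁sec, ← hA₀.aeval_sec, comp_aeval_apply, aeval_eq_eval,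
      show (fun l => qU (sec i j₀ (MvPolynomial.X l))) = (v₁ j₀)⁻¹ • v₁ from funext hqU, eval_smul_hom hF₁]
    exact mul_ne_zero (pow_ne_zero _ (inv_ne_zero hvj)) (right_ne_zero_of_mul hPv)
  rw [map_mul] at hqF
  obtain ⟨p₂, hp₂⟩ := hA₀.exists_point qU (left_ne_zero_of_mul hqF)
  have hp₂v : (fun l => p₂ (gA i j₀ h₀ l)) = (v₁ j₀)⁻¹ • v₁ := by
    funext l
    rw [hp₂ l, hqU l]
  have hdet₂ : p₂ (pivotMat bas (condMap b₀ (formA i h₀ d)) S₀).det ≠ 0 := by
    have halg : p₂.comp (IsScalarTower.toAlgHom k Γ(X, i ⁻¹ᵁ chart r k j₀) Γ(X, X.basicOpen h₀)) = qU := by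
      refine AlgHom.ext fun z => ?_
      obtain ⟨a, ha⟩ := Scheme.Hom.app_surjective i (chart r k j₀) (chartU r k j₀).2 z
      obtain ⟨G, rfl⟩ := polyToSection_surjective j₀ a
      have hG : MvPolynomial.aeval (R := k) (fun l => sec i j₀ (MvPolynomial.X l)) G = z :=
        (hA₀.aeval_sec G).trans ha
      rw [← hG, comp_aeval_apply, comp_aeval_apply]
      exact congrArg (fun t => MvPolynomial.aeval t G) (funext hp₂)
    intro h0
    have h1 := congrArg p₂ hu₁
    rw [map_mul, h0, zero_mul] at h1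
    exact right_ne_zero_of_mul hqF ((AlgHom.congr_fun halg u₁).symm.trans h1.symm)
  have hS₂ : LinearIndependent k fun y => evalAt (condMap b₀ (formA i h₀ d)) p₂ (bas (S₀ y)) := by
    show LinearIndependent k (((pivotMat bas (condMap b₀ (formA i h₀ d)) S₀).map p₂).col)
    rw [Matrix.linearIndependent_cols_iff_isUnit, Matrix.isUnit_iff_isUnit_det]
    exact isUnit_iff_ne_zero.2 fun h0 => hdet₂ (by rw [AlgHom.map_det]; exact h0)
  obtain ⟨q₂, -, hq₂⟩ := exists_kernelVec_eq bas (condMap b₀ (formA i h₀ d)) S₀ p₂ hS₂ H₁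
    ((hA₀.badAt_iff b₀ p₂ H₁).1 (by rw [Function.comp_def, hp₂v]; exact hb₂))
  have hH₁ : H₁ = ∑ l, q₂ (kernelVec bas (condMap b₀ (formA i h₀ d)) S₀ l) • bas l := by
    simp only [hq₂]
    exact (bas.sum_repr H₁).symm
  rw [hH₁, eval_poly_sum bas _ q₂ Q F hQ, hzero, map_zero]

include n in
open scoped Classical in
set_option maxHeartbeats 800000 in
/-- A function vanishing on the bad forms over a non-empty window vanishes on all. -/
theorem vanish_of_window (hd : 1 ≤ d)
    (F : Form r k d → k) (hF : IsPolyFun k F) {v₀ : Fin (r + 1) → k} (hJ₀ : ∀ G ∈ eqsSet i, eval v₀ G = 0)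
    {e : ℕ} {P : MvPolynomial (Fin (r + 1)) k} (hPhom : P.IsHomogeneous e) (hP₀ : eval v₀ P ≠ 0)
    (hwin : ∀ (H : Form r k d) v, BadAt i H.1 v → eval v P ≠ 0 → F H = 0)
    (H : Form r k d) {v : Fin (r + 1) → k} (hv : v ≠ 0) (hb : BadAt i H.1 v) : F H = 0 := by
  haveI : Module.Finite k (Form r k d) := Module.Finite.of_basis (H25Disc.monBasis k r d)
  obtain ⟨j, h, p', c, hc, hstd, hp', hcv⟩ := exists_point_of_zero (n := n) i hv hb.1
  letI : Algebra k Γ(X, i ⁻¹ᵁ chart r k j) := (scal i _).toAlgebra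
  letI : Algebra k Γ(X, X.basicOpen h) := (scal i _).toAlgebra
  letI : Algebra Γ(X, i ⁻¹ᵁ chart r k j) Γ(X, X.basicOpen h) :=
    (X.presheaf.map (homOfLE (X.basicOpen_le h)).op).hom.toAlgebra
  have hA : ChartAlg i j h := ⟨rfl, rfl, rfl⟩
  haveI := hA.isScalarTower
  obtain ⟨p, hpe⟩ : ∃ p : Γ(X, X.basicOpen h) →ₐ[k] k, ∀ z, p z = p' z :=
    ⟨AlgHom.mk p' hp', fun _ => rfl⟩
  haveI : Algebra.IsStandardSmoothOfRelativeDimension n k Γ(X, X.basicOpen h) := hstd
  haveI := isDomain_of_point i p'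
  haveI : Algebra.FiniteType k Γ(X, X.basicOpen h) :=
    haveI := Algebra.IsStandardSmoothOfRelativeDimension.isStandardSmooth n (R := k) (S := Γ(X, X.basicOpen h))
    inferInstance
  obtain ⟨b, -, -⟩ := exists_basis_D (k := k) (A := Γ(X, X.basicOpen h)) n
  generalize hbas : Module.finBasis k (Form r k d) = bas
  obtain ⟨Q, hQ⟩ := exists_eval_of_isPolyFun bas hF
  obtain ⟨S, hS⟩ := exists_pivot bas (condMap b (formA i h d)) p (hA.surjective_evalAt b hd p)
  have hpb : evalAt (condMap b (formA i h d)) p H = 0 := (hA.badAt_iff b p H).1 (by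
    have h1 := badAt_smul i H.2 hc hb
    rw [hcv, show (⇑p' ∘ gA i j h) = ⇑p ∘ gA i j h from funext fun l => (hpe _).symm] at h1
    exact h1)
  obtain ⟨q, -, hq⟩ := exists_kernelVec_eq bas (condMap b (formA i h d)) S p hS H hpb
  suffices hz : MvPolynomial.aeval (R := k) (kernelVec bas (condMap b (formA i h d)) S) Q = 0 by
    have hH : H = ∑ l, q (kernelVec bas (condMap b (formA i h d)) S l) • bas l := by
      simp only [hq]
      exact (bas.sum_repr H).symm
    rw [hH, eval_poly_sum bas _ q Q F hQ, hz, map_zero]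
  haveI : Algebra.FiniteType k
      (MvPolynomial {l : Fin (Module.finrank k (Form r k d)) // l ∉ Set.range S} Γ(X, X.basicOpen h)) :=
    Algebra.FiniteType.trans (S := Γ(X, X.basicOpen h)) inferInstance inferInstance
  have hPA : MvPolynomial.aeval (R := k) (gA i j h) P ≠ 0 := by
    intro h0
    haveI : Nonempty (X.basicOpen h) := by
      by_contra hne
      haveI : Subsingleton Γ(X, X.basicOpen h) := by
        have : X.basicOpen h = ⊥ := eq_bot_iff.2 fun y hy => (hne ⟨⟨y, hy⟩⟩).elim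
        rw [this]; infer_instance
      exact zero_ne_one (α := Γ(X, X.basicOpen h)) (Subsingleton.elim _ _)
    have h1 : sec i j P = 0 := by
      refine AlgebraicGeometry.map_injective_of_isIntegral X (homOfLE (X.basicOpen_le h)) ?_
      rw [map_zero, ← hA.aeval_gA]
      exact h0
    exact hP₀ (hJ₀ P (mem_eqsSet i hPhom (nonempty_of_point p) h1))
  refine (mul_eq_zero.1 (eq_zero_of_forall_point (k := k)
    (MvPolynomial.C (MvPolynomial.aeval (R := k) (gA i j h) P) *
      MvPolynomial.aeval (R := k) (kernelVec bas (condMap b (formA i h d)) S) Q) fun q' => ?_)).resolve_left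
      (fun h0 => hPA (MvPolynomial.C_injective _ _ (h0.trans (map_zero _).symm)))
  rw [map_mul, mul_eq_zero]
  refine or_iff_not_imp_left.2 fun hq' => ?_
  rw [← eval_poly_sum bas _ q' Q F hQ]
  refine hwin _ ((q'.comp (IsScalarTower.toAlgHom k Γ(X, X.basicOpen h) _)) ∘ gA i j h)
    ((hA.badAt_iff b _ _).2 (evalAt_kernelVec bas (condMap b (formA i h d)) S q')) ?_
  rw [eval_comp]
  exact hq'

include n in
/-- **the forms bad somewhere form an irreducible set**. -/
theorem irreducible_bad (hd : 1 ≤ d) (f g : Form r k d → k) (hf : IsPolyFun k f) (hg : IsPolyFun k g)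
    (hfg : ∀ H : Form r k d, (∃ v, v ≠ 0 ∧ BadAt i H.1 v) → f H * g H = 0) :
    (∀ H : Form r k d, (∃ v, v ≠ 0 ∧ BadAt i H.1 v) → f H = 0) ∨
      (∀ H : Form r k d, (∃ v, v ≠ 0 ∧ BadAt i H.1 v) → g H = 0) := by
  by_cases hex : ∃ H : Form r k d, ∃ v, v ≠ 0 ∧ BadAt i H.1 v
  swap
  · exact Or.inl fun H hH => absurd ⟨H, hH⟩ hex
  obtain ⟨H₀, v₀, hv₀, hb₀⟩ := hex
  obtain ⟨e, P, hPhom, hP₀, h | h⟩ := exists_window (n := n) i hd f g hf hg hfg hv₀ hb₀.1
  · exact Or.inl fun H ⟨v, hv, hb⟩ => vanish_of_window (n := n) i hd f hf hb₀.1 hPhom hP₀ h H hv hb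
  · exact Or.inr fun H ⟨v, hv, hb⟩ => vanish_of_window (n := n) i hd g hg hb₀.1 hPhom hP₀ h H hv hb

/-- **the dual cone is closed and irreducible**. -/
theorem main (hn : 1 ≤ n) (hd : 1 ≤ d) :
    IsZOpen k {H : Form r k d | Transversal k n 1 (secToSpec i ({H} : Set (Form r k d)))} ∧
    ∀ f g : Form r k d → k, IsPolyFun k f → IsPolyFun k g →
      (∀ H : Form r k d, ¬ Transversal k n 1 (secToSpec i ({H} : Set (Form r k d))) → f H * g H = 0) →
      (∀ H : Form r k d, ¬ Transversal k n 1 (secToSpec i ({H} : Set (Form r k d))) → f H = 0) ∨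
      (∀ H : Form r k d, ¬ Transversal k n 1 (secToSpec i ({H} : Set (Form r k d))) → g H = 0) := by
  refine ⟨isZOpen_transversal i hn, fun f g hf hg hfg => ?_⟩
  have hiff : ∀ H : Form r k d, ¬ Transversal k n 1 (secToSpec i ({H} : Set (Form r k d))) ↔ ∃ v, v ≠ 0 ∧ BadAt i H.1 v :=
    fun H => by rw [transversal_iff i hn H]; push Not; rfl
  simp only [hiff] at hfg ⊢
  exact irreducible_bad (n := n) i hd f g hf hg hfg

end Groth.Agent.H11Dual
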