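import Groth.Agent.H11Dual.Chart

/-!
The bad forms at the points of the affine cone over an embedded smooth projective variety.
-/

set_option autoImplicit false
set_option linter.style.haveILetI false
set_option linter.unusedSectionVars false
universe u

open CategoryTheory CategoryTheory.Limits AlgebraicGeometry Opposite LefPen TopologicalSpace

noncomputable section

namespace Groth.Agent.H11Dual

open MvPolynomial H25Transversal KaehlerDifferential

variable {r : ℕ} {k : Type u} [Field k] {X : Scheme.{u}} (i : X ⟶ CohB1.ProjSpace r k)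

/-- The point of the cone is singular on the section by `H`, or `H` is tangent there. -/
def BadAt (H : MvPolynomial (Fin (r + 1)) k) (v : Fin (r + 1) → k) : Prop :=
  (∀ F ∈ eqsSet i, eval v F = 0) ∧ eval v H = 0 ∧ ∀ w ∈ tanSp (eqsSet i) v, dotProduct (grad v H) w = 0

theorem eval_smul_hom {e : ℕ} {F : MvPolynomial (Fin (r + 1)) k} (hF : F.IsHomogeneous e) (c : k)
    (v : Fin (r + 1) → k) : eval (c • v) F = c ^ e * eval v F := by
  rw [eval_eq', eval_eq', Finset.mul_sum]
  refine Finset.sum_congr rfl fun a ha => ?_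
  have h : a.degree = e := by
    have := hF (mem_support_iff.mp ha)
    rwa [show (Finsupp.weight (1 : Fin (r + 1) → ℕ)) a = a.degree by
      rw [Finsupp.degree_eq_weight_one]; rfl] at this
  simp only [Pi.smul_apply, smul_eq_mul, mul_pow, Finset.prod_mul_distrib, Finset.prod_pow_eq_pow_sum]
  rw [← h, Finsupp.degree_eq_sum]
  ring

theorem grad_smul_hom {e : ℕ} {F : MvPolynomial (Fin (r + 1)) k} (hF : F.IsHomogeneous e) (c : k)
    (v : Fin (r + 1) → k) : grad (c • v) F = c ^ (e - 1) • grad v F :=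
  funext fun l => eval_smul_hom hF.pderiv c v

theorem tanSp_smul {c : k} (hc : c ≠ 0) (v : Fin (r + 1) → k) :
    tanSp (eqsSet i) (c • v) = tanSp (eqsSet i) v := by
  ext w
  refine forall₂_congr fun F hF => ?_
  obtain ⟨e, he⟩ := hF.1
  rw [grad_smul_hom he, smul_dotProduct, smul_eq_mul, mul_eq_zero]
  simp [pow_ne_zero _ hc]

theorem badAt_smul {d : ℕ} {H : MvPolynomial (Fin (r + 1)) k} (hH : H.IsHomogeneous d) {c : k} (hc : c ≠ 0)
    {v : Fin (r + 1) → k} (hv : BadAt i H v) : BadAt i H (c • v) := by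
  obtain ⟨h1, h2, h3⟩ := hv
  refine ⟨fun F hF => ?_, by rw [eval_smul_hom hH, h2, mul_zero], fun w hw => ?_⟩
  · obtain ⟨e, he⟩ := hF.1
    rw [eval_smul_hom he, h1 F hF, mul_zero]
  · rw [tanSp_smul i hc] at hw
    rw [grad_smul_hom hH, smul_dotProduct, h3 w hw, smul_zero]

variable {j : Fin (r + 1)} {h : Γ(X, i ⁻¹ᵁ chart r k j)} [IsClosedImmersion i]
  [Algebra k Γ(X, i ⁻¹ᵁ chart r k j)] [Algebra k Γ(X, X.basicOpen h)]
  [Algebra Γ(X, i ⁻¹ᵁ chart r k j) Γ(X, X.basicOpen h)]

/-- The forms as functions on a chart. -/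
def formA (h : Γ(X, i ⁻¹ᵁ chart r k j)) [Algebra k Γ(X, X.basicOpen h)] (d : ℕ) :
    Form r k d →ₗ[k] Γ(X, X.basicOpen h) :=
  (MvPolynomial.aeval (gA i j h)).toLinearMap ∘ₗ (CohB1.polyGrading r k d).subtype

variable {n : ℕ} (b : Module.Basis (Fin n) Γ(X, X.basicOpen h) Ω[Γ(X, X.basicOpen h)⁄k]) [IsIntegral X]

variable {i}

theorem nonempty_of_point (p : Γ(X, X.basicOpen h) →ₐ[k] k) : (i ⁻¹ᵁ chart r k j : Set X).Nonempty := by
  by_contra hne
  rw [Set.not_nonempty_iff_eq_empty] at hne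
  have hsub : Subsingleton Γ(X, X.basicOpen h) := by
    have : X.basicOpen h = ⊥ := eq_bot_iff.2 fun y hy => by
      have : y ∈ (i ⁻¹ᵁ chart r k j : Set X) := X.basicOpen_le h hy
      rw [hne] at this
      exact this.elim
    rw [this]
    infer_instance
  exact one_ne_zero (α := k) (by rw [← map_one p, Subsingleton.elim (1 : Γ(X, X.basicOpen h)) 0, map_zero])

theorem ChartAlg.badAt_iff (hA : ChartAlg i j h) (p : Γ(X, X.basicOpen h) →ₐ[k] k) {d : ℕ} (H : Form r k d) :
    BadAt i H.1 (p ∘ gA i j h) ↔ H25Param.evalAt (condMap b (formA i h d)) p H = 0 := by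
  haveI := hA.isScalarTower
  haveI := hA.isLocalization
  have hc := hA.coneChart (nonempty_of_point p)
  have key := IsConeChart.condMap_eq_zero_iff b (gA i j h) j p (eqsSet i) (fun F hF => hF.1)
    (fun F hF => hA.eqs_zero F hF) hc h (H := H.1) (d := d) H.2
  constructor
  · rintro ⟨-, h2, h3⟩
    obtain ⟨k1, k2⟩ := key.2 ⟨h2, h3⟩
    funext o
    cases o with
    | none => exact k1
    | some l => exact k2 l
  · intro h0
    refine ⟨fun F hF => ?_, key.1 ⟨congrFun h0 none, fun l => congrFun h0 (some l)⟩⟩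
    rw [eval_comp, hA.eqs_zero F hF, map_zero]

theorem ChartAlg.finrank_tanSp (hA : ChartAlg i j h) (b : Module.Basis (Fin n) Γ(X, X.basicOpen h) Ω[Γ(X, X.basicOpen h)⁄k])
    (p : Γ(X, X.basicOpen h) →ₐ[k] k) :
    Module.finrank k (tanSp (eqsSet i) (p ∘ gA i j h)) = n + 1 := by
  haveI := hA.isScalarTower
  haveI := hA.isLocalization
  exact IsConeChart.finrank_tanSp b (gA i j h) j p (eqsSet i) (fun F hF => hF.1)
    (fun F hF => hA.eqs_zero F hF) hA.span_D (hA.coneChart (nonempty_of_point p)) h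

theorem ChartAlg.surjective_evalAt (hA : ChartAlg i j h) {d : ℕ} (hd : 1 ≤ d)
    (p : Γ(X, X.basicOpen h) →ₐ[k] k) : Function.Surjective (H25Param.evalAt (condMap b (formA i h d)) p) := by
  have hgj : gA i j h j = 1 := by
    show X.presheaf.map _ (sec i j _) = 1
    rw [sec_X_self]
    exact map_one (X.presheaf.map (homOfLE (X.basicOpen_le h)).op).hom
  refine condMap_surjective b (formA i h d) (gA i j h) j hgj hA.span_D (fun l => ?_) p
  refine ⟨⟨MvPolynomial.X j ^ (d - 1) * MvPolynomial.X l, ?_⟩, ?_⟩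
  · have h := ((MvPolynomial.isHomogeneous_X k j).pow (d - 1)).mul (MvPolynomial.isHomogeneous_X k l)
    rw [show 1 * (d - 1) + 1 = d by omega] at h
    exact h
  · simp [formA, hgj]

variable [IsAlgClosed k]

theorem finiteType_U (hA : ChartAlg i j h) : Algebra.FiniteType k Γ(X, i ⁻¹ᵁ chart r k j) :=
  Algebra.FiniteType.of_surjective (MvPolynomial.aeval fun l => sec i j (MvPolynomial.X l)) fun u => by
    obtain ⟨a, ha⟩ := Scheme.Hom.app_surjective i (chart r k j) (chartU r k j).2 u
    obtain ⟨F, rfl⟩ := polyToSection_surjective j a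
    exact ⟨F, by rw [hA.aeval_sec]; exact ha⟩

/-- A point of the chart lying in the basic open extends to it. -/
theorem ChartAlg.exists_point (hA : ChartAlg i j h) (q : Γ(X, i ⁻¹ᵁ chart r k j) →ₐ[k] k) (hq : q h ≠ 0) :
    ∃ p : Γ(X, X.basicOpen h) →ₐ[k] k, ∀ l, p (gA i j h l) = q (sec i j (MvPolynomial.X l)) := by
  haveI := hA.isScalarTower
  haveI := hA.isLocalization
  have hu : ∀ y : Submonoid.powers h, IsUnit (q y) := by
    rintro ⟨_, m, rfl⟩
    simpa using (pow_ne_zero m hq)
  refine ⟨IsLocalization.liftAlgHom (M := Submonoid.powers h) (S := Γ(X, X.basicOpen h)) (f := q) hu, fun l => ?_⟩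
  have : gA i j h l = algebraMap _ Γ(X, X.basicOpen h) (sec i j (MvPolynomial.X l)) := by rw [hA.UA]; rfl
  rw [this]
  exact IsLocalization.lift_eq _ _

end Groth.Agent.H11Dual
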