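import Groth.Agent.H11Dual.Points

/-!
A section is transversal exactly when the form is bad at no point of the cone.
-/

set_option autoImplicit false
set_option linter.style.haveILetI false
set_option linter.unusedSectionVars false
universe u

open CategoryTheory CategoryTheory.Limits AlgebraicGeometry Opposite LefPen TopologicalSpace

noncomputable section

namespace Groth.Agent.H11Dual

open MvPolynomial H25Transversal KaehlerDifferential

variable {r n d : ℕ} {k : Type u} [Field k] [IsAlgClosed k] {X : Scheme.{u}} (i : X ⟶ CohB1.ProjSpace r k)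
  [IsClosedImmersion i] [IsIntegral X] [SmoothOfRelativeDimension n (i ≫ CohB1.ProjSpace.toSpec r k)]

omit [IsAlgClosed k] [SmoothOfRelativeDimension n (i ≫ CohB1.ProjSpace.toSpec r k)] in
theorem exists_point_U {j : Fin (r + 1)}
    {h : Γ(X, i ⁻¹ᵁ chart r k j)} [Algebra k Γ(X, i ⁻¹ᵁ chart r k j)] [Algebra k Γ(X, X.basicOpen h)]
    [Algebra Γ(X, i ⁻¹ᵁ chart r k j) Γ(X, X.basicOpen h)] (hA : ChartAlg i j h)
    (hne : (i ⁻¹ᵁ chart r k j : Set X).Nonempty) (v : Fin (r + 1) → k) (hvj : v j = 1)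
    (hJ : ∀ F ∈ eqsSet i, eval v F = 0) :
    ∃ q : Γ(X, i ⁻¹ᵁ chart r k j) →ₐ[k] k, ∀ l, q (sec i j (MvPolynomial.X l)) = v l :=
  haveI := hA.isScalarTower
  IsConeChart.exists_point (gA i j h) j (eqsSet i) (hA.coneChart hne) v hvj hJ

set_option maxHeartbeats 600000 in
/-- Every zero of the equations is a multiple of a point of a standard smooth basic chart. -/
theorem exists_point_of_zero {v : Fin (r + 1) → k} (hv : v ≠ 0) (hJ : ∀ F ∈ eqsSet i, eval v F = 0) :
    ∃ (j : Fin (r + 1)) (h : Γ(X, i ⁻¹ᵁ chart r k j)) (p : Γ(X, X.basicOpen h) →+* k) (c : k), c ≠ 0 ∧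
      (scal i (X.basicOpen h)).IsStandardSmoothOfRelativeDimension n ∧
      (∀ a, p (scal i (X.basicOpen h) a) = a) ∧ c • v = p ∘ gA i j h := by
  obtain ⟨j, hj⟩ := Function.ne_iff.1 hv
  have hne : (i ⁻¹ᵁ chart r k j : Set X).Nonempty := by
    by_contra hne
    exact hj (by simpa using hJ _ (X_mem_eqsSet i hne))
  let v' : Fin (r + 1) → k := (v j)⁻¹ • v
  have hv'j : v' j = 1 := inv_mul_cancel₀ hj
  have hJ' : ∀ F ∈ eqsSet i, eval v' F = 0 := fun F hF => by
    obtain ⟨e, he⟩ := hF.1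
    rw [eval_smul_hom he, hJ F hF, mul_zero]
  let U := i ⁻¹ᵁ chart r k j
  have hU : IsAffineOpen U := (chartU r k j).2.preimage i
  letI : Algebra k Γ(X, U) := (scal i U).toAlgebra
  obtain ⟨q, hq⟩ : ∃ q : Γ(X, U) →ₐ[k] k, ∀ l, q (sec i j (MvPolynomial.X l)) = v' l := by
    letI : Algebra k Γ(X, X.basicOpen (1 : Γ(X, i ⁻¹ᵁ chart r k j))) := (scal i _).toAlgebra
    letI : Algebra Γ(X, i ⁻¹ᵁ chart r k j) Γ(X, X.basicOpen (1 : Γ(X, i ⁻¹ᵁ chart r k j))) :=
      (X.presheaf.map (homOfLE (X.basicOpen_le (1 : Γ(X, i ⁻¹ᵁ chart r k j)))).op).hom.toAlgebra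
    exact exists_point_U i (h := (1 : Γ(X, i ⁻¹ᵁ chart r k j))) ⟨rfl, rfl, rfl⟩ hne v' hv'j hJ'
  let P : PrimeSpectrum Γ(X, U) := ⟨RingHom.ker q, RingHom.ker_isPrime q⟩
  have hx : hU.fromSpec P ∈ U := by
    have h1 : hU.fromSpec P ∈ Set.range hU.fromSpec := ⟨_, rfl⟩
    rw [hU.range_fromSpec] at h1
    exact h1
  obtain ⟨h, hxh, hstd⟩ := exists_basic_chart (n := n) i j (hU.fromSpec P) hx
  have hqh : q h ≠ 0 := fun h0 => by
    have hmem : P ∈ hU.fromSpec ⁻¹ᵁ X.basicOpen h := hxh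
    rw [hU.fromSpec_preimage_basicOpen] at hmem
    exact hmem h0
  letI : Algebra k Γ(X, X.basicOpen h) := (scal i _).toAlgebra
  letI : Algebra Γ(X, i ⁻¹ᵁ chart r k j) Γ(X, X.basicOpen h) :=
    (X.presheaf.map (homOfLE (X.basicOpen_le h)).op).hom.toAlgebra
  have hA : ChartAlg i j h := ⟨rfl, rfl, rfl⟩
  obtain ⟨p, hp⟩ := hA.exists_point q hqh
  refine ⟨j, h, (p : Γ(X, X.basicOpen h) →+* k), (v j)⁻¹, inv_ne_zero hj, hstd, ?_, ?_⟩
  · intro a
    rw [show scal i (X.basicOpen h) a = algebraMap k Γ(X, X.basicOpen h) a from (RingHom.congr_fun hA.kA a).symm,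
      RingHom.coe_coe, AlgHom.commutes]
    rfl
  · funext l
    rw [Function.comp_apply, RingHom.coe_coe, hp l, hq l]

omit [IsAlgClosed k] in
theorem locally_standardSmooth_of_sec {m : ℕ} (H : Form r k d)
    [SmoothOfRelativeDimension m (secToSpec i ({H} : Set (Form r k d)))] (U : X.affineOpens) :
    RingHom.Locally (RingHom.IsStandardSmoothOfRelativeDimension m)
      ((Ideal.Quotient.mk ((secIdeal i ({H} : Set (Form r k d))).ideal U)).comp (scal i U.1)) := by
  let I := secIdeal i ({H} : Set (Form r k d))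
  haveI : IsZariskiLocalAtSource (@SmoothOfRelativeDimension.{u} m) :=
    HasRingHomProperty.instIsZariskiLocalAtSource
      (Q := RingHom.Locally (RingHom.IsStandardSmoothOfRelativeDimension m))
  haveI : IsOpenImmersion (I.subschemeCover.f U) := I.subschemeCover.map_prop U
  have h1 : SmoothOfRelativeDimension m (I.subschemeCover.f U ≫ secToSpec i {H}) :=
    IsZariskiLocalAtSource.comp (P := @SmoothOfRelativeDimension m) ‹_› _
  have key : I.subschemeCover.f U ≫ secToSpec i {H} = Spec.map (CommRingCat.ofHom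
      ((Ideal.Quotient.mk (I.ideal U)).comp (scal i U.1))) := by
    have e := IsAffineOpen.SpecMap_appLE_fromSpec (i ≫ CohB1.ProjSpace.toSpec r k)
      (isAffineOpen_top (Spec (CommRingCat.of k))) U.2 (fun _ _ => trivial)
    rw [IsAffineOpen.fromSpec_top, Scheme.isoSpec_Spec_inv, ← Spec.map_comp] at e
    have h0 := (Scheme.IdealSheafData.subschemeCover_map_subschemeι I U).trans
      (Scheme.IdealSheafData.glueDataObjι_ι I U)
    refine (Category.assoc _ _ _).symm.trans ?_
    refine (congrArg (· ≫ (i ≫ CohB1.ProjSpace.toSpec r k)) h0).trans ?_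
    refine (Category.assoc _ _ _).trans ?_
    exact (congrArg (Spec.map _ ≫ ·) e.symm).trans (Spec.map_comp _ _).symm
  rw [key] at h1
  exact (HasRingHomProperty.Spec_iff (P := @SmoothOfRelativeDimension m)).mp h1

/-- At a point where value and differential vanish the section is not smooth of dimension `n - 1`. -/
theorem not_locally_standardSmooth {A : Type u} [CommRing A] [Algebra k A] {m : ℕ} (hm : m < n)
    (b : Module.Basis (Fin n) A Ω[A⁄k]) (p : A →ₐ[k] k) (a : A) (h0 : p a = 0)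
    (hd : ∀ l, p (b.repr (D k A a) l) = 0) :
    ¬ RingHom.Locally (RingHom.IsStandardSmoothOfRelativeDimension m)
      (algebraMap k (A ⧸ Ideal.span {a})) := by
  classical
  rintro ⟨s, hs, hQ⟩
  let pb : (A ⧸ Ideal.span {a}) →ₐ[k] k := Ideal.Quotient.liftₐ _ p fun x hx => by
    obtain ⟨t, rfl⟩ := Ideal.mem_span_singleton'.1 hx
    rw [map_mul, h0, mul_zero]
  obtain ⟨t, hts, ht⟩ : ∃ t ∈ s, pb t ≠ 0 := by
    by_contra hcon
    push Not at hcon
    have : (⊤ : Ideal (A ⧸ Ideal.span {a})) ≤ RingHom.ker pb := hs ▸ Ideal.span_le.2 fun x hx => hcon x hx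
    exact one_ne_zero ((map_one pb).symm.trans (this (Submodule.mem_top (x := (1 : A ⧸ Ideal.span {a})))))
  let S := Localization.Away t
  have hstd : Algebra.IsStandardSmoothOfRelativeDimension m k S := by
    have h1 := hQ t hts
    rwa [← IsScalarTower.algebraMap_eq, RingHom.isStandardSmoothOfRelativeDimension_algebraMap] at h1
  have hu : ∀ y : Submonoid.powers t, IsUnit (pb y) := by
    rintro ⟨_, e, rfl⟩
    simpa using pow_ne_zero e ht
  let pS : S →ₐ[k] k := IsLocalization.liftAlgHom (M := Submonoid.powers t) (S := S) (f := pb) hu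
  have hpS : ∀ x, pS (algebraMap (A ⧸ Ideal.span {a}) S x) = pb x := fun x => IsLocalization.lift_eq _ x
  have hders : ∀ l : Fin n, ∃ ℓ : Ω[S⁄k] →+ k, (∀ (z : S) (ω : Ω[S⁄k]), ℓ (z • ω) = pS z * ℓ ω) ∧
      ∀ x : A, ℓ (D k S (algebraMap _ S (Ideal.Quotient.mk (Ideal.span {a}) x))) = p (b.repr (D k A x) l) := by
    intro l
    let δ : A →ₗ[k] k := p.toLinearMap ∘ₗ ((b.coord l).restrictScalars k) ∘ₗ (D k A).toLinearMap
    obtain ⟨Φ, hΦ⟩ := exists_dualNumberHom p δ fun x y => by
      show p (b.repr (D k A (x * y)) l) = _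
      simp [δ, map_add]
    let ΦQ : (A ⧸ Ideal.span {a}) →ₐ[k] TrivSqZeroExt k k := Ideal.Quotient.liftₐ _ Φ fun x hx => by
      obtain ⟨z, rfl⟩ := Ideal.mem_span_singleton'.1 hx
      have : Φ a = 0 := TrivSqZeroExt.ext ((hΦ a).1.trans h0) ((hΦ a).2.trans (hd l))
      rw [map_mul, this, mul_zero]
    have hQfst : ∀ x, (ΦQ x).fst = pb x := fun x => by
      obtain ⟨x, rfl⟩ := Ideal.Quotient.mk_surjective x
      exact (hΦ x).1
    have hu' : ∀ y : Submonoid.powers t, IsUnit (ΦQ y) := fun y => by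
      rw [TrivSqZeroExt.isUnit_iff_isUnit_fst, hQfst]
      exact hu y
    let ΦS : S →ₐ[k] TrivSqZeroExt k k := IsLocalization.liftAlgHom (M := Submonoid.powers t) (S := S) (f := ΦQ) hu'
    have hΦS : ∀ x, ΦS (algebraMap (A ⧸ Ideal.span {a}) S x) = ΦQ x := fun x => IsLocalization.lift_eq _ x
    have hfst : ∀ z, (ΦS z).fst = pS z := by
      have h' : (TrivSqZeroExt.fstHom k k k).comp ΦS = pS := by
        refine AlgHom.coe_ringHom_injective (IsLocalization.ringHom_ext (Submonoid.powers t) (RingHom.ext fun x => ?_))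
        show (ΦS (algebraMap _ S x)).fst = pS (algebraMap _ S x)
        rw [hΦS, hQfst, hpS]
      exact fun z => AlgHom.congr_fun h' z
    obtain ⟨ℓ, hℓ, hℓD⟩ := exists_functional pS ΦS hfst
    refine ⟨ℓ, hℓ, fun x => ?_⟩
    rw [hℓD, hΦS]
    exact (hΦ x).2
  choose ℓ hℓ hℓD using hders
  haveI : Nontrivial S := ⟨0, 1, fun h01 => zero_ne_one (α := k) (by rw [← map_zero pS, h01, map_one])⟩
  haveI := hstd
  obtain ⟨B, -, -⟩ := exists_basis_D (k := k) (A := S) m
  let T : (Fin n → k) →ₗ[k] (Fin m → k) :=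
    LinearMap.pi fun e => ∑ l, (ℓ l (B e)) • LinearMap.proj l
  obtain ⟨c, hc, hc0⟩ : ∃ c : Fin n → k, T c = 0 ∧ c ≠ 0 := by
    have hker : LinearMap.ker T ≠ ⊥ := LinearMap.ker_ne_bot_of_finrank_lt (by simp [hm])
    obtain ⟨c, hc, hc0⟩ := (Submodule.ne_bot_iff _).1 hker
    exact ⟨c, hc, hc0⟩
  refine hc0 (funext fun e => ?_)
  have hall : ∀ ω : Ω[S⁄k], ∑ l, c l * ℓ l ω = 0 := fun ω => by
    rw [← B.sum_repr ω]
    simp only [map_sum, hℓ, Finset.mul_sum]
    rw [Finset.sum_comm]
    refine Finset.sum_eq_zero fun e' _ => ?_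
    have h1 := congrFun hc e'
    simp only [T, LinearMap.pi_apply, LinearMap.sum_apply, LinearMap.smul_apply, LinearMap.proj_apply,
      smul_eq_mul, Pi.zero_apply] at h1
    calc ∑ l, c l * (pS (B.repr ω e') * ℓ l (B e'))
        = pS (B.repr ω e') * ∑ l, ℓ l (B e') * c l := by
          rw [Finset.mul_sum]; exact Finset.sum_congr rfl fun l _ => by ring
      _ = 0 := by rw [h1, mul_zero]
  have key : ∀ ω : Ω[A⁄k], ∑ l, c l * p (b.repr ω l) = 0 := fun ω => by
    induction (KaehlerDifferential.span_range_derivation k A).ge (Submodule.mem_top (x := ω)) using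
      Submodule.span_induction with
    | mem x hx =>
      obtain ⟨x, rfl⟩ := hx
      simp only [← hℓD]
      exact hall _
    | zero => simp
    | add x y _ _ hx hy =>
      simp only [map_add, Finsupp.add_apply, mul_add, Finset.sum_add_distrib]
      rw [hx, hy, add_zero]
    | smul z x _ hx =>
      simp only [map_smul, Finsupp.smul_apply, smul_eq_mul, map_mul, mul_left_comm (c _), ← Finset.mul_sum]
      rw [hx, mul_zero]
  simpa [Finsupp.single_apply] using key (b e)

/-- **transversal sections**: exactly the forms bad nowhere. -/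
theorem transversal_iff (hn : 1 ≤ n) (H : Form r k d) :
    Transversal k n 1 (secToSpec i ({H} : Set (Form r k d))) ↔
      ∀ v : Fin (r + 1) → k, v ≠ 0 → ¬ BadAt i H.1 v := by
  constructor
  · rintro (⟨-, hsm⟩ | ⟨hlt, -⟩)
    swap
    · omega
    intro v hv hbad
    obtain ⟨j, h, p₀, c, hc0, hstd, hp₀, hcv⟩ := exists_point_of_zero (n := n) i hv hbad.1
    letI : Algebra k Γ(X, i ⁻¹ᵁ chart r k j) := (scal i _).toAlgebra
    letI : Algebra k Γ(X, X.basicOpen h) := (scal i _).toAlgebra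
    letI : Algebra Γ(X, i ⁻¹ᵁ chart r k j) Γ(X, X.basicOpen h) :=
      (X.presheaf.map (homOfLE (X.basicOpen_le h)).op).hom.toAlgebra
    have hA : ChartAlg i j h := ⟨rfl, rfl, rfl⟩
    let p : Γ(X, X.basicOpen h) →ₐ[k] k := AlgHom.mk p₀ hp₀
    haveI : Algebra.IsStandardSmoothOfRelativeDimension n k Γ(X, X.basicOpen h) := hstd
    haveI : Nontrivial Γ(X, X.basicOpen h) := ⟨0, 1, fun h01 => zero_ne_one (α := k) (by rw [← map_zero p, h01, map_one])⟩
    obtain ⟨b, -, -⟩ := exists_basis_D (k := k) (A := Γ(X, X.basicOpen h)) n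
    have h1 : BadAt i H.1 (p ∘ gA i j h) := hcv ▸ badAt_smul i H.2 hc0 hbad
    rw [hA.badAt_iff b] at h1
    have h2 := locally_standardSmooth_of_sec (m := n - 1) i H ⟨X.basicOpen h, ((chartU r k j).2.preimage i).basicOpen h⟩
    rw [hA.secIdeal_ideal] at h2
    exact not_locally_standardSmooth (by omega) b p _ (congrFun h1 none) (fun l => congrFun h1 (some l)) h2
  · intro hbad
    refine Or.inl ⟨hn, smoothOfRelativeDimension_sec i {H} fun x => ?_⟩
    have hxx : i x ∈ (⨆ j, chart r k j) := by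
      rw [show (⨆ j, chart r k j) = ⊤ from H11Proj.ProjSpace.iSup_basicOpen r k]; trivial
    obtain ⟨j, hxj : x ∈ i ⁻¹ᵁ chart r k j⟩ := Opens.mem_iSup.mp hxx
    obtain ⟨h, hxh, hstd⟩ := exists_basic_chart (n := n) i j x hxj
    letI : Algebra k Γ(X, i ⁻¹ᵁ chart r k j) := (scal i _).toAlgebra
    letI : Algebra k Γ(X, X.basicOpen h) := (scal i _).toAlgebra
    letI : Algebra Γ(X, i ⁻¹ᵁ chart r k j) Γ(X, X.basicOpen h) :=
      (X.presheaf.map (homOfLE (X.basicOpen_le h)).op).hom.toAlgebra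
    have hA : ChartAlg i j h := ⟨rfl, rfl, rfl⟩
    haveI : Algebra.IsStandardSmoothOfRelativeDimension n k Γ(X, X.basicOpen h) := hstd
    haveI := Algebra.IsStandardSmoothOfRelativeDimension.isStandardSmooth n (R := k) (S := Γ(X, X.basicOpen h))
    haveI : Nonempty (X.basicOpen h) := ⟨⟨x, hxh⟩⟩
    obtain ⟨b, a, hb⟩ := exists_basis_D (k := k) (A := Γ(X, X.basicOpen h)) n
    let L := MvPolynomial.aeval (R := k) (gA i j h) H.1
    have hu : Ideal.span ({L} ∪ Set.range fun l => b.repr (D k Γ(X, X.basicOpen h) L) l) = ⊤ := by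
      by_contra hne
      obtain ⟨p, hp⟩ := H25Transversal.exists_point (k := k) hne
      refine hbad (p ∘ gA i j h) (fun h0 => ?_) ((hA.badAt_iff b p H).2 (funext fun o => ?_))
      · have := congrFun h0 j
        simp only [Function.comp_apply, Pi.zero_apply] at this
        rw [show gA i j h j = 1 from ((congrArg _ (sec_X_self i j)).trans (map_one (X.presheaf.map (homOfLE (X.basicOpen_le h)).op).hom)), map_one] at this
        exact one_ne_zero this
      · cases o with
        | none => exact hp _ (Ideal.subset_span (Or.inl rfl))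
        | some l => exact hp _ (Ideal.subset_span (Or.inr ⟨l, rfl⟩))
    refine ⟨⟨X.basicOpen h, ((chartU r k j).2.preimage i).basicOpen h⟩, hxh, ?_⟩
    have hl := locally_standardSmooth b a hb L hu
    rw [hA.secIdeal_ideal]
    exact hl

end Groth.Agent.H11Dual
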